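import Cfsg.Agent.H296.KB.Rank
import Cfsg.Agent.H973.KB.Cyc
import Cfsg.Agent.H508.KB.Defs

/-!
# S4822: lower bounds for `k(B₀)` from commuting elements `x`, `y` of order `p ^ m`, `|S|_p = p ^ (2 m)` (helper682)

* `Pr p m x y c n` : `x`, `y` commute and have the order `p ^ m`, `c x c⁻¹ = x`, `c y c⁻¹ = y ^ n`;
* `rank_pair` : the order of `n` modulo `p` is at most `l(B₀(C(x)))`;
* `two_le_of_conj` : `2 ≤ l(B₀)`;
* `count` : `p + 3 ≤ 2 k(B₀)` from lines `⟨x a⟩`.
-/

set_option autoImplicit false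

open Cfsg Subgroup
open Cfsg.Agent.H508.KB

namespace Cfsg.Agent.H682.KB

universe u

/-- `x`, `y` commute and have the order `p ^ m`, `c x c⁻¹ = x`, `c y c⁻¹ = y ^ n` -/
structure Pr {S : Type u} [Group S] (p m : ℕ) (x y c : S) (n : ℕ) : Prop where
  ox : orderOf x = p ^ m
  oy : orderOf y = p ^ m
  xy : x * y = y * x
  cx : c * x = x * c
  cy : c * y * c⁻¹ = y ^ n

theorem Pr.map {S : Type u} [Group S] {T : Type*} [Group T] (f : S ≃* T) {p m : ℕ} {x y c : S} {n : ℕ}
    (h : Pr p m x y c n) : Pr p m (f x) (f y) (f c) n where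
  ox := by rw [MulEquiv.orderOf_eq, h.ox]
  oy := by rw [MulEquiv.orderOf_eq, h.oy]
  xy := by rw [← map_mul, h.xy, map_mul]
  cx := by rw [← map_mul, h.cx, map_mul]
  cy := by rw [← map_mul, ← map_inv, ← map_mul, h.cy, map_pow]

variable {p : ℕ} [Fact p.Prime] {M : Ideal AlgInt}

theorem Pr.pow {S : Type u} [Group S] {m : ℕ} {x y c : S} {n : ℕ} (h : Pr p m x y c n) {i : ℕ} (hi : ¬ p ∣ i) :
    Pr p m (x ^ i) y c n where
  ox := by
    have hp : p.Prime := Fact.out
    have h1 : (orderOf x).Coprime i := by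
      rw [h.ox]
      exact Nat.Coprime.pow_left _ ((Nat.Prime.coprime_iff_not_dvd hp).2 hi)
    rw [Nat.Coprime.orderOf_pow h1, h.ox]
  oy := h.oy
  xy := (Commute.pow_left h.xy i)
  cx := (Commute.pow_right h.cx i)
  cy := h.cy

section

variable {S : Type u} [Group S] [Finite S]

/-- `2 ≤ l(B₀)` from an element acting on a `p`-element -/
theorem two_le_of_conj (hM : IsPModular p M) {m : ℕ} {y c : S} {n : ℕ} (hm : m ≠ 0) (hy : orderOf y = p ^ m)
    (hc : c * y * c⁻¹ = y ^ n) (hn : (n : ZMod p) ≠ 1) : 2 ≤ blockRank p (principalBlock M S) := by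
  have hp : p.Prime := Fact.out
  set a := (orderOf c).factorization p with ha
  have hc0 : orderOf c ≠ 0 := (orderOf_pos c).ne'
  have h1 : c ^ p ^ a * y * (c ^ p ^ a)⁻¹ = y ^ n ^ p ^ a := H973.KB.conj_pow_pow hc _
  have hpy : p ∣ orderOf y := by
    rw [hy]
    exact dvd_pow_self p hm
  refine H296.KB.two_le_rank hM (zpowers y) (IsPGroup.of_card (n := m) (by rw [Nat.card_zpowers, hy])) (c ^ p ^ a) ?_ ?_ y
    (mem_zpowers y) ?_
  · intro h2
    have h3 : orderOf (c ^ p ^ a) ∣ orderOf c / p ^ a := by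
      apply orderOf_dvd_of_pow_eq_one
      rw [← pow_mul, Nat.mul_div_cancel' (Nat.ordProj_dvd _ _), pow_orderOf_eq_one]
    exact Nat.not_dvd_ordCompl hp hc0 (h2.trans h3)
  · rintro z ⟨k, rfl⟩
    show c ^ p ^ a * y ^ k * (c ^ p ^ a)⁻¹ ∈ _
    rw [← conj_zpow, h1]
    exact Subgroup.zpow_mem _ (Subgroup.pow_mem _ (mem_zpowers y) _) _
  · intro h2
    rw [h2, mul_inv_cancel_right] at h1
    have h3 : y ^ 1 = y ^ n ^ p ^ a := by rw [pow_one]; exact h1
    rw [pow_eq_pow_iff_modEq] at h3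
    have h4 := (ZMod.natCast_eq_natCast_iff _ _ _).2 (h3.of_dvd hpy)
    rw [Nat.cast_one, Nat.cast_pow, ZMod.pow_card_pow] at h4
    exact hn h4.symm

/-- **The rank of the principal block of the centralizer of `x`.** -/
theorem rank_pair (hM : IsPModular p M) {m : ℕ} (hm : m ≠ 0) (hS : ¬ p ^ (2 * m + 1) ∣ Nat.card S) {x y c : S} {n : ℕ}
    (h : Pr p m x y c n) :
    orderOf (n : ZMod p) ≤ blockRank p (principalBlock M ↥(centralizer ({x} : Set S))) := by
  classical
  have hp : p.Prime := Fact.out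
  by_cases hn : (n : ZMod p) = 1
  · rw [hn, orderOf_one]
    exact H296.KB.one_le_rank hM
  set C := centralizer ({x} : Set S) with hC
  have hxC : x ∈ C := mem_centralizer_singleton_iff.2 rfl
  have hyC : y ∈ C := mem_centralizer_singleton_iff.2 h.xy.symm
  have hcC : c ∈ C := mem_centralizer_singleton_iff.2 h.cx
  set x' : C := ⟨x, hxC⟩ with hx'
  set y' : C := ⟨y, hyC⟩ with hy'
  set c' : C := ⟨c, hcC⟩ with hc'
  have hcy' : c' * y' * c'⁻¹ = y' ^ n := Subtype.ext h.cy
  have hcen : ∀ g : C, g * x' = x' * g := fun g => Subtype.ext (mem_centralizer_singleton_iff.1 g.2)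
  have hZn : (zpowers x').Normal := by
    refine ⟨fun z hz g => ?_⟩
    obtain ⟨k, rfl⟩ := hz
    have h1 : g * x' ^ k * g⁻¹ = x' ^ k := by
      have h2 : Commute g x' := hcen g
      rw [(h2.zpow_right k).eq, mul_inv_cancel_right]
    show g * x' ^ k * g⁻¹ ∈ zpowers x'
    rw [h1]
    exact ⟨k, rfl⟩
  have hpm : 0 < p ^ m := pow_pos hp.pos _
  -- the order of `ȳ`
  have key : ∀ k : ℕ, y' ^ k ∈ zpowers x' → p ^ m ∣ k := by
    rintro k ⟨j, hj⟩
    have h1 : c' * y' ^ k * c'⁻¹ = y' ^ k := by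
      have h2 : Commute c' x' := hcen c'
      have h3 : Commute c' (y' ^ k) := by
        rw [← hj]
        exact h2.zpow_right j
      rw [h3.eq, mul_inv_cancel_right]
    have h2 : c' * y' ^ k * c'⁻¹ = y' ^ (n * k) := by
      rw [← conj_pow, hcy', ← pow_mul]
    rw [h2, pow_eq_pow_iff_modEq, Subgroup.orderOf_mk, h.oy] at h1
    have h3 : ((p ^ m : ℕ) : ℤ) ∣ ((n * k : ℕ) : ℤ) - (k : ℤ) := (Nat.modEq_iff_dvd.1 h1.symm)
    have h4 : ((n * k : ℕ) : ℤ) - (k : ℤ) = (k : ℤ) * ((n : ℤ) - 1) := by push_cast; ring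
    rw [h4] at h3
    have h5 : IsCoprime ((p ^ m : ℕ) : ℤ) ((n : ℤ) - 1) := by
      rw [Nat.cast_pow]
      apply IsCoprime.pow_left
      rw [Prime.coprime_iff_not_dvd (Nat.prime_iff_prime_int.1 hp)]
      intro h6
      apply hn
      have h7 := (ZMod.intCast_zmod_eq_zero_iff_dvd _ p).2 h6
      push_cast at h7
      exact sub_eq_zero.1 h7
    exact Int.natCast_dvd_natCast.1 (h5.dvd_of_dvd_mul_right h3)
  set Q := C ⧸ zpowers x' with hQ
  set φ : C →* Q := QuotientGroup.mk' (zpowers x') with hφ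
  have hφs : Function.Surjective φ := QuotientGroup.mk'_surjective _
  have hoy : orderOf (φ y') = p ^ m := by
    apply Nat.dvd_antisymm
    · apply orderOf_dvd_of_pow_eq_one
      rw [← map_pow]
      have h1 : y' ^ p ^ m = 1 := by
        apply Subtype.ext
        rw [Subgroup.coe_pow, ← h.oy]
        exact pow_orderOf_eq_one y
      rw [h1, map_one]
    · apply key
      have h1 := pow_orderOf_eq_one (φ y')
      rw [← map_pow] at h1
      exact (QuotientGroup.eq_one_iff _).1 h1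
  have hcq : φ c' * φ y' * (φ c')⁻¹ = φ y' ^ n := by
    rw [← map_inv, ← map_mul, ← map_mul, hcy', map_pow]
  have hcard : Nat.card C = Nat.card Q * p ^ m := by
    rw [Subgroup.card_eq_card_quotient_mul_card_subgroup (zpowers x'), Nat.card_zpowers, Subgroup.orderOf_mk, h.ox]
  have hCS : Nat.card C ∣ Nat.card S := Subgroup.card_subgroup_dvd_card C
  have hPy : IsPGroup p (zpowers (φ y')) := IsPGroup.of_card (n := m) (by rw [Nat.card_zpowers, hoy])
  obtain ⟨P, hP⟩ := hPy.exists_le_sylow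
  obtain ⟨k, hk⟩ := IsPGroup.iff_card.1 P.isPGroup'
  have hkm : k ≤ m := by
    by_contra hlt
    apply hS
    refine (pow_dvd_pow p (show 2 * m + 1 ≤ k + m by omega)).trans ?_
    rw [pow_add, ← hk]
    refine (Nat.mul_dvd_mul_right (Subgroup.card_subgroup_dvd_card _) _).trans ?_
    rw [← hcard]
    exact hCS
  have hPe : (P : Subgroup Q) = zpowers (φ y') := by
    symm
    refine Subgroup.eq_of_le_of_card_ge hP ?_
    rw [Nat.card_zpowers, hoy, hk]
    exact Nat.pow_le_pow_right hp.pos hkm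
  have hcyc : IsCyclic (P : Subgroup Q) := by
    rw [hPe]
    infer_instance
  have hy1 : φ y' ≠ 1 := by
    intro h1
    rw [h1, orderOf_one] at hoy
    exact (Nat.one_lt_pow hm hp.one_lt).ne hoy
  exact (H973.KB.rank_cyclic hM P hcyc (φ y') (φ c') hy1 m hoy n hcq).trans (H296.KB.rank_quot_le hM φ hφs)

/-- `p - 1 ≤ e r`, `r` the number of `e`-th powers -/
theorem card_powers {e : ℕ} (he : e ≠ 0) :
    p - 1 ≤ Nat.card (powMonoidHom e : (ZMod p)ˣ →* (ZMod p)ˣ).range * e := by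
  have hp : p.Prime := Fact.out
  have : NeZero e := ⟨he⟩
  have h1 : Nat.card (powMonoidHom e : (ZMod p)ˣ →* (ZMod p)ˣ).ker ≤ e := by
    have h2 : (powMonoidHom e : (ZMod p)ˣ →* (ZMod p)ˣ).ker = rootsOfUnity e (ZMod p) := by
      ext u
      rw [MonoidHom.mem_ker, mem_rootsOfUnity, powMonoidHom_apply]
    rw [h2]
    exact card_rootsOfUnity (ZMod p) e
  have h2 := Subgroup.card_mul_index (powMonoidHom e : (ZMod p)ˣ →* (ZMod p)ˣ).ker
  rw [Subgroup.index_ker, Nat.card_eq_fintype_card (α := (ZMod p)ˣ), ZMod.card_units p] at h2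
  rw [← h2, mul_comm]
  exact Nat.mul_le_mul_left _ h1

/-- **The count.** -/
theorem count {ι : Type} [Fintype ι] (hM : IsPModular p M) {m e : ℕ} (hm : m ≠ 0) (he : e ≠ 0) (x : ι → S)
    (hx : ∀ a, orderOf (x a) = p ^ m)
    (fus : ∀ a b (i j : ℕ), ¬ p ∣ i → ¬ p ∣ j → IsConj (x a ^ i) (x b ^ j) → a = b ∧ (i : ZMod p) ^ e = (j : ZMod p) ^ e)
    (l : ι → ℕ)
    (hl : ∀ a i, ¬ p ∣ i → l a ≤ blockRank p (principalBlock M ↥(centralizer ({x a ^ i} : Set S))))
    (h2 : 2 ≤ blockRank p (principalBlock M ↥(centralizer ({(1 : S)} : Set S)))) (hL : e ≤ 2 * ∑ a, l a) :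
    p + 3 ≤ 2 * kB M S := by
  classical
  have hp : p.Prime := Fact.out
  set H := (powMonoidHom e : (ZMod p)ˣ →* (ZMod p)ˣ).range with hH
  have hHf : Fintype H := Fintype.ofFinite H
  have hu : ∀ h : H, ∃ u : (ZMod p)ˣ, u ^ e = h := fun h => h.2
  choose u hue using hu
  have hval : ∀ h : H, (((u h : ZMod p).val : ℕ) : ZMod p) = u h := fun h => ZMod.natCast_zmod_val _
  have hnd : ∀ h : H, ¬ p ∣ (u h : ZMod p).val := by
    intro h hd
    have h1 := (ZMod.natCast_eq_zero_iff _ p).2 hd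
    rw [hval] at h1
    exact (u h).ne_zero h1
  let φ : Option (ι × H) → S := fun o => o.elim 1 fun z => x z.1 ^ (u z.2 : ZMod p).val
  have hpm : p ∣ p ^ m := dvd_pow_self p hm
  have h1ne : ∀ a (h : H), x a ^ (u h : ZMod p).val ≠ 1 := by
    intro a h h3
    have h4 := orderOf_dvd_of_pow_eq_one h3
    rw [hx] at h4
    exact hnd h (hpm.trans h4)
  have hsep : ∀ o o', IsConj (φ o) (φ o') → o = o' := by
    rintro (_ | ⟨a, h⟩) (_ | ⟨b, h'⟩) hc
    · rfl
    · exact absurd (isConj_one_right.1 hc) (h1ne b h')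
    · exact absurd (isConj_one_right.1 hc.symm) (h1ne a h)
    · obtain ⟨h3, h4⟩ := fus a b _ _ (hnd h) (hnd h') hc
      rw [hval, hval] at h4
      have h5 : (u h) ^ e = (u h') ^ e := Units.ext (by push_cast; exact h4)
      rw [hue, hue] at h5
      rw [h3, Subtype.ext h5]
  have hinj : Function.Injective φ := fun o o' h => hsep o o' (h ▸ IsConj.refl _)
  have h3 := H296.KB.sum_le_kB (S := S) hM (Finset.univ.image φ) (by
    intro z hz
    obtain ⟨o, -, rfl⟩ := Finset.mem_image.1 hz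
    rcases o with _ | ⟨a, h⟩
    · exact ⟨0, by rw [pow_zero]; exact orderOf_one⟩
    · have h4 : orderOf (x a ^ (u h : ZMod p).val) ∣ p ^ m := by
        rw [← hx a]
        exact orderOf_pow_dvd _
      obtain ⟨k, -, hk⟩ := (Nat.dvd_prime_pow hp).1 h4
      exact ⟨k, hk⟩) (by
    intro z hz z' hz' hc
    obtain ⟨o, -, rfl⟩ := Finset.mem_image.1 hz
    obtain ⟨o', -, rfl⟩ := Finset.mem_image.1 hz'
    rw [hsep o o' hc])
  rw [Finset.sum_image fun o _ o' _ h => hinj h, Fintype.sum_option, Fintype.sum_prod_type] at h3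
  have h4 : ∀ a, Nat.card H * l a ≤
      ∑ h : H, blockRank p (principalBlock M ↥(centralizer ({φ (some (a, h))} : Set S))) := by
    intro a
    calc Nat.card H * l a = ∑ _h : H, l a := by
          rw [Finset.sum_const, Finset.card_univ, Nat.card_eq_fintype_card, smul_eq_mul]
      _ ≤ _ := Finset.sum_le_sum fun h _ => hl a _ (hnd h)
  have h5 : Nat.card H * ∑ a, l a ≤
      ∑ a, ∑ h : H, blockRank p (principalBlock M ↥(centralizer ({φ (some (a, h))} : Set S))) := by
    rw [Finset.mul_sum]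
    exact Finset.sum_le_sum fun a _ => h4 a
  have h6 : 2 + Nat.card H * ∑ a, l a ≤ kB M S := le_trans (Nat.add_le_add h2 h5) h3
  have h7 := card_powers (p := p) he
  rw [← hH] at h7
  have h8 : Nat.card H * e ≤ Nat.card H * (2 * ∑ a, l a) := Nat.mul_le_mul_left _ hL
  have h9 := hp.two_le
  have h10 : Nat.card H * (2 * ∑ a, l a) = 2 * (Nat.card H * ∑ a, l a) := by ring
  omega

end

end Cfsg.Agent.H682.KB
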