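import Cfsg.Agent.H682.KB.Q4
import Cfsg.Agent.H942.E8Tab

/-!
# Elements of the Weyl group of type `E₈`, eigenvectors and power sums (helper682, S4822)

`d = 5, 8, 10, 12`: `w` with the characteristic polynomial `Φ_d²`, complex reflections `v` in the centralizer of `w`
acting on the eigenspace of `w`, eigenvectors `b` (fixed by `v`) and `a`.
-/

set_option autoImplicit false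
set_option maxRecDepth 100000
set_option maxHeartbeats 8000000

namespace Cfsg.Agent.H682.KB

open Cfsg Cfsg.Lie Cfsg.Agent.H129.WData Cfsg.Agent.H210.EL Cfsg.Agent.H944.Tab Cfsg.Agent.H942.E8Tab
open Cfsg.Agent.ChevalleyStructure.CoxeterGeom Cfsg.Agent.ChevalleyStructure.CoxeterGeomTypes

/-- a matrix from a list of rows -/
def mt (L : List (List ℤ)) : Mat 8 := fun i j => (L.getD i []).getD j 0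

/-- the Cartan matrix -/
def Am : Mat 8 := mt [[2, 0, -1, 0, 0, 0, 0, 0], [0, 2, 0, -1, 0, 0, 0, 0], [-1, 0, 2, -1, 0, 0, 0, 0], [0, -1, -1, 2, -1, 0, 0, 0], [0, 0, 0, -1, 2, -1, 0, 0], [0, 0, 0, 0, -1, 2, -1, 0], [0, 0, 0, 0, 0, -1, 2, -1], [0, 0, 0, 0, 0, 0, -1, 2]]

theorem hA : ∀ i j, Am i j = cartanOf chevE8 8 i j := by decide +kernel

namespace D5

/-- the element `w` -/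
def cw : List (Fin 8 × Mat 8) := [
  (3, mt [[-1, -2, -2, -3, -2, -2, -2, -1], [-1, -2, -3, -4, -4, -3, -2, -1], [0, 1, 0, 1, 1, 1, 1, 0], [1, 1, 2, 2, 2, 2, 1, 1], [-1, -1, -1, -2, -2, -2, -1, -1], [1, 1, 1, 2, 2, 1, 1, 1], [0, 1, 1, 2, 1, 1, 0, 0], [1, 0, 1, 1, 1, 1, 1, 0]]),
  (2, mt [[-1, -2, -2, -3, -2, -2, -2, -1], [-1, -2, -3, -5, -4, -3, -2, -1], [0, 1, 0, 1, 1, 1, 1, 0], [1, 1, 2, 3, 2, 2, 1, 1], [-1, -1, -1, -2, -2, -2, -1, -1], [1, 1, 1, 2, 2, 1, 1, 1], [0, 1, 1, 1, 1, 1, 0, 0], [1, 0, 1, 1, 1, 1, 1, 0]]),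
  (4, mt [[-1, -2, -2, -3, -2, -2, -2, -1], [-1, -2, -3, -5, -4, -3, -2, -1], [0, 1, 1, 1, 1, 1, 1, 0], [1, 1, 2, 3, 2, 2, 1, 1], [-1, -1, -2, -2, -2, -2, -1, -1], [1, 1, 2, 2, 2, 1, 1, 1], [0, 1, 0, 1, 1, 1, 0, 0], [1, 0, 1, 1, 1, 1, 1, 0]]),
  (3, mt [[-1, -2, -2, -3, -3, -2, -2, -1], [-1, -2, -3, -5, -4, -3, -2, -1], [0, 1, 1, 1, 1, 1, 1, 0], [1, 1, 2, 3, 3, 2, 1, 1], [-1, -1, -2, -2, -2, -2, -1, -1], [1, 1, 2, 2, 1, 1, 1, 1], [0, 1, 0, 1, 1, 1, 0, 0], [1, 0, 1, 1, 1, 1, 1, 0]]),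
  (5, mt [[-1, -2, -2, -4, -3, -2, -2, -1], [-1, -2, -3, -4, -4, -3, -2, -1], [0, 1, 1, 2, 1, 1, 1, 0], [1, 1, 2, 3, 3, 2, 1, 1], [-1, -1, -2, -3, -2, -2, -1, -1], [1, 1, 2, 2, 1, 1, 1, 1], [0, 1, 0, 1, 1, 1, 0, 0], [1, 0, 1, 1, 1, 1, 1, 0]]),
  (4, mt [[-1, -2, -2, -4, -3, -3, -2, -1], [-1, -2, -3, -4, -4, -3, -2, -1], [0, 1, 1, 2, 1, 1, 1, 0], [1, 1, 2, 3, 3, 2, 1, 1], [-1, -1, -2, -3, -2, -1, -1, -1], [1, 1, 2, 2, 1, 1, 1, 1], [0, 1, 0, 1, 1, 0, 0, 0], [1, 0, 1, 1, 1, 1, 1, 0]]),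
  (3, mt [[-1, -2, -2, -4, -4, -3, -2, -1], [-1, -2, -3, -4, -3, -3, -2, -1], [0, 1, 1, 2, 2, 1, 1, 0], [1, 1, 2, 3, 2, 2, 1, 1], [-1, -1, -2, -3, -2, -1, -1, -1], [1, 1, 2, 2, 2, 1, 1, 1], [0, 1, 0, 1, 0, 0, 0, 0], [1, 0, 1, 1, 1, 1, 1, 0]]),
  (6, mt [[-1, -2, -2, -4, -4, -3, -2, -1], [-1, -2, -3, -4, -3, -3, -2, -1], [0, 1, 1, 2, 2, 1, 1, 0], [1, 1, 2, 2, 2, 2, 1, 1], [-1, -1, -2, -2, -2, -1, -1, -1], [1, 1, 2, 3, 2, 1, 1, 1], [0, 1, 0, 0, 0, 0, 0, 0], [1, 0, 1, 1, 1, 1, 1, 0]]),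
  (5, mt [[-1, -2, -2, -4, -4, -3, -2, -1], [-1, -2, -3, -4, -3, -3, -2, -1], [0, 1, 1, 2, 2, 1, 0, 0], [1, 1, 2, 2, 2, 2, 2, 1], [-1, -1, -2, -2, -2, -1, -1, -1], [1, 1, 2, 3, 2, 1, 1, 1], [0, 1, 0, 0, 0, 0, 0, 0], [1, 0, 1, 1, 1, 1, 0, 0]]),
  (4, mt [[-1, -2, -2, -4, -4, -3, -2, -1], [-1, -2, -3, -4, -3, -2, -2, -1], [0, 1, 1, 2, 2, 1, 0, 0], [1, 1, 2, 2, 2, 2, 2, 1], [-1, -1, -2, -2, -2, -2, -1, -1], [1, 1, 2, 3, 2, 2, 1, 1], [0, 1, 0, 0, 0, 0, 0, 0], [1, 0, 1, 1, 1, 0, 0, 0]]),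
  (3, mt [[-1, -2, -2, -4, -3, -3, -2, -1], [-1, -2, -3, -4, -3, -2, -2, -1], [0, 1, 1, 2, 1, 1, 0, 0], [1, 1, 2, 2, 2, 2, 2, 1], [-1, -1, -2, -2, -2, -2, -1, -1], [1, 1, 2, 3, 3, 2, 1, 1], [0, 1, 0, 0, 0, 0, 0, 0], [1, 0, 1, 1, 0, 0, 0, 0]]),
  (1, mt [[-1, -2, -2, -3, -3, -3, -2, -1], [-1, -2, -3, -4, -3, -2, -2, -1], [0, 1, 1, 1, 1, 1, 0, 0], [1, 1, 2, 3, 2, 2, 2, 1], [-1, -1, -2, -3, -2, -2, -1, -1], [1, 1, 2, 3, 3, 2, 1, 1], [0, 1, 0, 1, 0, 0, 0, 0], [1, 0, 1, 0, 0, 0, 0, 0]]),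
  (2, mt [[-1, -1, -2, -3, -3, -3, -2, -1], [-1, -2, -3, -4, -3, -2, -2, -1], [0, 0, 1, 1, 1, 1, 0, 0], [1, 2, 2, 3, 2, 2, 2, 1], [-1, -2, -2, -3, -2, -2, -1, -1], [1, 2, 2, 3, 3, 2, 1, 1], [0, 0, 0, 1, 0, 0, 0, 0], [1, 0, 1, 0, 0, 0, 0, 0]]),
  (3, mt [[-1, -1, -2, -3, -3, -3, -2, -1], [-1, -2, -2, -4, -3, -2, -2, -1], [0, 0, 0, 1, 1, 1, 0, 0], [1, 2, 2, 3, 2, 2, 2, 1], [-1, -2, -2, -3, -2, -2, -1, -1], [1, 2, 2, 3, 3, 2, 1, 1], [0, 0, 1, 1, 0, 0, 0, 0], [1, 0, 0, 0, 0, 0, 0, 0]]),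
  (4, mt [[-1, -1, -2, -3, -3, -3, -2, -1], [-1, -2, -2, -3, -3, -2, -2, -1], [0, 0, 0, 0, 1, 1, 0, 0], [1, 2, 2, 3, 2, 2, 2, 1], [-1, -2, -2, -3, -2, -2, -1, -1], [1, 2, 2, 4, 3, 2, 1, 1], [0, 0, 1, 0, 0, 0, 0, 0], [1, 0, 0, 0, 0, 0, 0, 0]]),
  (7, mt [[-1, -1, -2, -3, -3, -3, -2, -1], [-1, -2, -2, -3, -2, -2, -2, -1], [0, 0, 0, 0, 0, 1, 0, 0], [1, 2, 2, 3, 3, 2, 2, 1], [-1, -2, -2, -3, -3, -2, -1, -1], [1, 2, 2, 4, 3, 2, 1, 1], [0, 0, 1, 0, 0, 0, 0, 0], [1, 0, 0, 0, 0, 0, 0, 0]]),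
  (6, mt [[-1, -1, -2, -3, -3, -3, -2, -1], [-1, -2, -2, -3, -2, -2, -2, -1], [0, 0, 0, 0, 0, 1, 0, 0], [1, 2, 2, 3, 3, 2, 2, 1], [-1, -2, -2, -3, -3, -2, -1, 0], [1, 2, 2, 4, 3, 2, 1, 0], [0, 0, 1, 0, 0, 0, 0, 0], [1, 0, 0, 0, 0, 0, 0, 0]]),
  (5, mt [[-1, -1, -2, -3, -3, -3, -2, -1], [-1, -2, -2, -3, -2, -2, -1, -1], [0, 0, 0, 0, 0, 1, 1, 0], [1, 2, 2, 3, 3, 2, 1, 1], [-1, -2, -2, -3, -3, -2, -1, 0], [1, 2, 2, 4, 3, 2, 1, 0], [0, 0, 1, 0, 0, 0, 0, 0], [1, 0, 0, 0, 0, 0, 0, 0]]),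
  (4, mt [[-1, -1, -2, -3, -3, -2, -2, -1], [-1, -2, -2, -3, -2, -1, -1, -1], [0, 0, 0, 0, 0, 0, 1, 0], [1, 2, 2, 3, 3, 2, 1, 1], [-1, -2, -2, -3, -3, -2, -1, 0], [1, 2, 2, 4, 3, 2, 1, 0], [0, 0, 1, 0, 0, 0, 0, 0], [1, 0, 0, 0, 0, 0, 0, 0]]),
  (3, mt [[-1, -1, -2, -3, -2, -2, -2, -1], [-1, -2, -2, -3, -2, -1, -1, -1], [0, 0, 0, 0, 0, 0, 1, 0], [1, 2, 2, 3, 2, 2, 1, 1], [-1, -2, -2, -3, -2, -2, -1, 0], [1, 2, 2, 4, 3, 2, 1, 0], [0, 0, 1, 0, 0, 0, 0, 0], [1, 0, 0, 0, 0, 0, 0, 0]]),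
  (1, mt [[-1, -1, -2, -2, -2, -2, -2, -1], [-1, -2, -2, -3, -2, -1, -1, -1], [0, 0, 0, 0, 0, 0, 1, 0], [1, 2, 2, 3, 2, 2, 1, 1], [-1, -2, -2, -3, -2, -2, -1, 0], [1, 2, 2, 3, 3, 2, 1, 0], [0, 0, 1, 1, 0, 0, 0, 0], [1, 0, 0, 0, 0, 0, 0, 0]]),
  (2, mt [[-1, -1, -2, -2, -2, -2, -2, -1], [-1, -1, -2, -3, -2, -1, -1, -1], [0, 0, 0, 0, 0, 0, 1, 0], [1, 1, 2, 3, 2, 2, 1, 1], [-1, -1, -2, -3, -2, -2, -1, 0], [1, 1, 2, 3, 3, 2, 1, 0], [0, 1, 1, 1, 0, 0, 0, 0], [1, 0, 0, 0, 0, 0, 0, 0]]),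
  (0, mt [[-1, -1, -1, -2, -2, -2, -2, -1], [-1, -1, -2, -3, -2, -1, -1, -1], [0, 0, 0, 0, 0, 0, 1, 0], [1, 1, 2, 3, 2, 2, 1, 1], [-1, -1, -2, -3, -2, -2, -1, 0], [1, 1, 2, 3, 3, 2, 1, 0], [0, 1, 0, 1, 0, 0, 0, 0], [1, 0, 1, 0, 0, 0, 0, 0]]),
  (3, mt [[0, -1, -1, -2, -2, -2, -2, -1], [-1, -1, -2, -3, -2, -1, -1, -1], [0, 0, 0, 0, 0, 0, 1, 0], [1, 1, 2, 3, 2, 2, 1, 1], [-1, -1, -2, -3, -2, -2, -1, 0], [1, 1, 2, 3, 3, 2, 1, 0], [0, 1, 0, 1, 0, 0, 0, 0], [0, 0, 1, 0, 0, 0, 0, 0]]),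
  (2, mt [[0, -1, -1, -2, -2, -2, -2, -1], [-1, -1, -2, -2, -2, -1, -1, -1], [0, 0, 0, 0, 0, 0, 1, 0], [1, 1, 2, 2, 2, 2, 1, 1], [-1, -1, -2, -2, -2, -2, -1, 0], [1, 1, 2, 3, 3, 2, 1, 0], [0, 1, 0, 0, 0, 0, 0, 0], [0, 0, 1, 1, 0, 0, 0, 0]]),
  (4, mt [[0, -1, -1, -2, -2, -2, -2, -1], [-1, -1, -1, -2, -2, -1, -1, -1], [0, 0, 0, 0, 0, 0, 1, 0], [1, 1, 1, 2, 2, 2, 1, 1], [-1, -1, -1, -2, -2, -2, -1, 0], [1, 1, 2, 3, 3, 2, 1, 0], [0, 1, 0, 0, 0, 0, 0, 0], [0, 0, 0, 1, 0, 0, 0, 0]]),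
  (3, mt [[0, -1, -1, -2, -2, -2, -2, -1], [-1, -1, -1, -2, -1, -1, -1, -1], [0, 0, 0, 0, 0, 0, 1, 0], [1, 1, 1, 2, 2, 2, 1, 1], [-1, -1, -1, -2, -2, -2, -1, 0], [1, 1, 2, 3, 2, 2, 1, 0], [0, 1, 0, 0, 0, 0, 0, 0], [0, 0, 0, 1, 1, 0, 0, 0]]),
  (1, mt [[0, -1, -1, -2, -2, -2, -2, -1], [-1, -1, -1, -1, -1, -1, -1, -1], [0, 0, 0, 0, 0, 0, 1, 0], [1, 1, 1, 2, 2, 2, 1, 1], [-1, -1, -1, -2, -2, -2, -1, 0], [1, 1, 2, 2, 2, 2, 1, 0], [0, 1, 0, 1, 0, 0, 0, 0], [0, 0, 0, 0, 1, 0, 0, 0]]),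
  (5, mt [[0, -1, -1, -2, -2, -2, -2, -1], [-1, 0, -1, -1, -1, -1, -1, -1], [0, 0, 0, 0, 0, 0, 1, 0], [1, 1, 1, 2, 2, 2, 1, 1], [-1, -1, -1, -2, -2, -2, -1, 0], [1, 1, 2, 2, 2, 2, 1, 0], [0, 0, 0, 1, 0, 0, 0, 0], [0, 0, 0, 0, 1, 0, 0, 0]]),
  (4, mt [[0, -1, -1, -2, -2, -2, -2, -1], [-1, 0, -1, -1, -1, -1, -1, -1], [0, 0, 0, 0, 0, 1, 1, 0], [1, 1, 1, 2, 2, 1, 1, 1], [-1, -1, -1, -2, -2, -1, -1, 0], [1, 1, 2, 2, 2, 1, 1, 0], [0, 0, 0, 1, 0, 0, 0, 0], [0, 0, 0, 0, 1, 1, 0, 0]]),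
  (3, mt [[0, -1, -1, -2, -2, -2, -2, -1], [-1, 0, -1, -1, -1, -1, -1, -1], [0, 0, 0, 0, 1, 1, 1, 0], [1, 1, 1, 2, 1, 1, 1, 1], [-1, -1, -1, -2, -1, -1, -1, 0], [1, 1, 2, 2, 1, 1, 1, 0], [0, 0, 0, 1, 1, 0, 0, 0], [0, 0, 0, 0, 0, 1, 0, 0]]),
  (2, mt [[0, -1, -1, -2, -2, -2, -2, -1], [-1, 0, -1, -1, -1, -1, -1, -1], [0, 0, 0, 1, 1, 1, 1, 0], [1, 1, 1, 1, 1, 1, 1, 1], [-1, -1, -1, -1, -1, -1, -1, 0], [1, 1, 2, 2, 1, 1, 1, 0], [0, 0, 0, 0, 1, 0, 0, 0], [0, 0, 0, 0, 0, 1, 0, 0]]),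
  (0, mt [[0, -1, -1, -2, -2, -2, -2, -1], [-1, 0, -1, -1, -1, -1, -1, -1], [0, 0, 1, 1, 1, 1, 1, 0], [1, 1, 1, 1, 1, 1, 1, 1], [-1, -1, -1, -1, -1, -1, -1, 0], [1, 1, 1, 2, 1, 1, 1, 0], [0, 0, 0, 0, 1, 0, 0, 0], [0, 0, 0, 0, 0, 1, 0, 0]]),
  (6, mt [[-1, -1, -1, -2, -2, -2, -2, -1], [0, 0, -1, -1, -1, -1, -1, -1], [1, 0, 1, 1, 1, 1, 1, 0], [0, 1, 1, 1, 1, 1, 1, 1], [0, -1, -1, -1, -1, -1, -1, 0], [0, 1, 1, 2, 1, 1, 1, 0], [0, 0, 0, 0, 1, 0, 0, 0], [0, 0, 0, 0, 0, 1, 0, 0]]),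
  (5, mt [[-1, -1, -1, -2, -2, -2, -1, -1], [0, 0, -1, -1, -1, -1, -1, -1], [1, 0, 1, 1, 1, 1, 0, 0], [0, 1, 1, 1, 1, 1, 1, 1], [0, -1, -1, -1, -1, -1, 0, 0], [0, 1, 1, 2, 1, 1, 0, 0], [0, 0, 0, 0, 1, 0, 0, 0], [0, 0, 0, 0, 0, 1, 1, 0]]),
  (4, mt [[-1, -1, -1, -2, -2, -1, -1, -1], [0, 0, -1, -1, -1, -1, -1, -1], [1, 0, 1, 1, 1, 0, 0, 0], [0, 1, 1, 1, 1, 1, 1, 1], [0, -1, -1, -1, -1, 0, 0, 0], [0, 1, 1, 2, 1, 0, 0, 0], [0, 0, 0, 0, 1, 1, 0, 0], [0, 0, 0, 0, 0, 0, 1, 0]]),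
  (3, mt [[-1, -1, -1, -2, -1, -1, -1, -1], [0, 0, -1, -1, -1, -1, -1, -1], [1, 0, 1, 1, 0, 0, 0, 0], [0, 1, 1, 1, 1, 1, 1, 1], [0, -1, -1, -1, 0, 0, 0, 0], [0, 1, 1, 2, 1, 0, 0, 0], [0, 0, 0, 0, 0, 1, 0, 0], [0, 0, 0, 0, 0, 0, 1, 0]]),
  (1, mt [[-1, -1, -1, -1, -1, -1, -1, -1], [0, 0, -1, -1, -1, -1, -1, -1], [1, 0, 1, 0, 0, 0, 0, 0], [0, 1, 1, 2, 1, 1, 1, 1], [0, -1, -1, -1, 0, 0, 0, 0], [0, 1, 1, 1, 1, 0, 0, 0], [0, 0, 0, 0, 0, 1, 0, 0], [0, 0, 0, 0, 0, 0, 1, 0]]),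
  (2, mt [[-1, 0, -1, -1, -1, -1, -1, -1], [0, -1, -1, -1, -1, -1, -1, -1], [1, 0, 1, 0, 0, 0, 0, 0], [0, 1, 1, 2, 1, 1, 1, 1], [0, 0, -1, -1, 0, 0, 0, 0], [0, 0, 1, 1, 1, 0, 0, 0], [0, 0, 0, 0, 0, 1, 0, 0], [0, 0, 0, 0, 0, 0, 1, 0]]),
  (3, mt [[-1, 0, -1, -1, -1, -1, -1, -1], [0, -1, 0, -1, -1, -1, -1, -1], [1, 0, 0, 0, 0, 0, 0, 0], [0, 1, 1, 2, 1, 1, 1, 1], [0, 0, 0, -1, 0, 0, 0, 0], [0, 0, 0, 1, 1, 0, 0, 0], [0, 0, 0, 0, 0, 1, 0, 0], [0, 0, 0, 0, 0, 0, 1, 0]]),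
  (7, mt [[-1, 0, -1, -1, -1, -1, -1, -1], [0, -1, 0, -1, -1, -1, -1, -1], [1, 0, 0, 0, 0, 0, 0, 0], [0, 1, 1, 1, 1, 1, 1, 1], [0, 0, 0, 1, 0, 0, 0, 0], [0, 0, 0, 0, 1, 0, 0, 0], [0, 0, 0, 0, 0, 1, 0, 0], [0, 0, 0, 0, 0, 0, 1, 0]]),
  (6, mt [[-1, 0, -1, -1, -1, -1, -1, 0], [0, -1, 0, -1, -1, -1, -1, 0], [1, 0, 0, 0, 0, 0, 0, 0], [0, 1, 1, 1, 1, 1, 1, 0], [0, 0, 0, 1, 0, 0, 0, 0], [0, 0, 0, 0, 1, 0, 0, 0], [0, 0, 0, 0, 0, 1, 0, 0], [0, 0, 0, 0, 0, 0, 1, 1]]),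
  (5, mt [[-1, 0, -1, -1, -1, -1, 0, 0], [0, -1, 0, -1, -1, -1, 0, 0], [1, 0, 0, 0, 0, 0, 0, 0], [0, 1, 1, 1, 1, 1, 0, 0], [0, 0, 0, 1, 0, 0, 0, 0], [0, 0, 0, 0, 1, 0, 0, 0], [0, 0, 0, 0, 0, 1, 1, 0], [0, 0, 0, 0, 0, 0, 0, 1]]),
  (4, mt [[-1, 0, -1, -1, -1, 0, 0, 0], [0, -1, 0, -1, -1, 0, 0, 0], [1, 0, 0, 0, 0, 0, 0, 0], [0, 1, 1, 1, 1, 0, 0, 0], [0, 0, 0, 1, 0, 0, 0, 0], [0, 0, 0, 0, 1, 1, 0, 0], [0, 0, 0, 0, 0, 0, 1, 0], [0, 0, 0, 0, 0, 0, 0, 1]]),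
  (3, mt [[-1, 0, -1, -1, 0, 0, 0, 0], [0, -1, 0, -1, 0, 0, 0, 0], [1, 0, 0, 0, 0, 0, 0, 0], [0, 1, 1, 1, 0, 0, 0, 0], [0, 0, 0, 1, 1, 0, 0, 0], [0, 0, 0, 0, 0, 1, 0, 0], [0, 0, 0, 0, 0, 0, 1, 0], [0, 0, 0, 0, 0, 0, 0, 1]]),
  (1, mt [[-1, 0, -1, 0, 0, 0, 0, 0], [0, -1, 0, 0, 0, 0, 0, 0], [1, 0, 0, 0, 0, 0, 0, 0], [0, 1, 1, 1, 0, 0, 0, 0], [0, 0, 0, 0, 1, 0, 0, 0], [0, 0, 0, 0, 0, 1, 0, 0], [0, 0, 0, 0, 0, 0, 1, 0], [0, 0, 0, 0, 0, 0, 0, 1]]),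
  (2, mt [[-1, 0, -1, 0, 0, 0, 0, 0], [0, 1, 0, 0, 0, 0, 0, 0], [1, 0, 0, 0, 0, 0, 0, 0], [0, 0, 1, 1, 0, 0, 0, 0], [0, 0, 0, 0, 1, 0, 0, 0], [0, 0, 0, 0, 0, 1, 0, 0], [0, 0, 0, 0, 0, 0, 1, 0], [0, 0, 0, 0, 0, 0, 0, 1]]),
  (0, mt [[-1, 0, 0, 0, 0, 0, 0, 0], [0, 1, 0, 0, 0, 0, 0, 0], [1, 0, 1, 0, 0, 0, 0, 0], [0, 0, 0, 1, 0, 0, 0, 0], [0, 0, 0, 0, 1, 0, 0, 0], [0, 0, 0, 0, 0, 1, 0, 0], [0, 0, 0, 0, 0, 0, 1, 0], [0, 0, 0, 0, 0, 0, 0, 1]])]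

theorem cw_ok : ChainOK Am cw := by decide +kernel

/-- the reflection `v` -/
def cv : List (Fin 8 × Mat 8) := [
  (4, mt [[1, 0, 1, 1, 1, 0, 0, 0], [0, 0, -1, -1, -1, -1, -1, 0], [0, 1, 0, 1, 1, 1, 1, 0], [0, -1, 0, -1, -1, 0, 0, 0], [0, 1, 1, 1, 1, 0, 0, 0], [0, 0, 0, 1, 1, 1, 0, 0], [0, 0, 0, 0, -1, -1, 0, 0], [0, 0, 0, 0, 1, 1, 1, 1]]),
  (3, mt [[1, 0, 1, 1, 0, 0, 0, 0], [0, 0, -1, -1, -1, -1, -1, 0], [0, 1, 0, 1, 1, 1, 1, 0], [0, -1, 0, -1, 0, 0, 0, 0], [0, 1, 1, 1, 0, 0, 0, 0], [0, 0, 0, 1, 1, 1, 0, 0], [0, 0, 0, 0, 0, -1, 0, 0], [0, 0, 0, 0, 0, 1, 1, 1]]),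
  (1, mt [[1, 0, 1, 0, 0, 0, 0, 0], [0, 0, -1, -1, -1, -1, -1, 0], [0, 1, 0, 1, 1, 1, 1, 0], [0, -1, 0, 0, 0, 0, 0, 0], [0, 1, 1, 1, 0, 0, 0, 0], [0, 0, 0, 0, 1, 1, 0, 0], [0, 0, 0, 0, 0, -1, 0, 0], [0, 0, 0, 0, 0, 1, 1, 1]]),
  (2, mt [[1, 0, 1, 0, 0, 0, 0, 0], [0, -1, -1, -1, -1, -1, -1, 0], [0, 0, 0, 1, 1, 1, 1, 0], [0, 1, 0, 0, 0, 0, 0, 0], [0, 0, 1, 1, 0, 0, 0, 0], [0, 0, 0, 0, 1, 1, 0, 0], [0, 0, 0, 0, 0, -1, 0, 0], [0, 0, 0, 0, 0, 1, 1, 1]]),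
  (5, mt [[1, 0, 0, 0, 0, 0, 0, 0], [0, -1, 0, -1, -1, -1, -1, 0], [0, 0, 1, 1, 1, 1, 1, 0], [0, 1, 0, 0, 0, 0, 0, 0], [0, 0, 0, 1, 0, 0, 0, 0], [0, 0, 0, 0, 1, 1, 0, 0], [0, 0, 0, 0, 0, -1, 0, 0], [0, 0, 0, 0, 0, 1, 1, 1]]),
  (6, mt [[1, 0, 0, 0, 0, 0, 0, 0], [0, -1, 0, -1, -1, -1, -1, 0], [0, 0, 1, 1, 1, 1, 1, 0], [0, 1, 0, 0, 0, 0, 0, 0], [0, 0, 0, 1, 0, 0, 0, 0], [0, 0, 0, 0, 1, 0, 0, 0], [0, 0, 0, 0, 0, 1, 0, 0], [0, 0, 0, 0, 0, 0, 1, 1]]),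
  (5, mt [[1, 0, 0, 0, 0, 0, 0, 0], [0, -1, 0, -1, -1, -1, 0, 0], [0, 0, 1, 1, 1, 1, 0, 0], [0, 1, 0, 0, 0, 0, 0, 0], [0, 0, 0, 1, 0, 0, 0, 0], [0, 0, 0, 0, 1, 0, 0, 0], [0, 0, 0, 0, 0, 1, 1, 0], [0, 0, 0, 0, 0, 0, 0, 1]]),
  (4, mt [[1, 0, 0, 0, 0, 0, 0, 0], [0, -1, 0, -1, -1, 0, 0, 0], [0, 0, 1, 1, 1, 0, 0, 0], [0, 1, 0, 0, 0, 0, 0, 0], [0, 0, 0, 1, 0, 0, 0, 0], [0, 0, 0, 0, 1, 1, 0, 0], [0, 0, 0, 0, 0, 0, 1, 0], [0, 0, 0, 0, 0, 0, 0, 1]]),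
  (3, mt [[1, 0, 0, 0, 0, 0, 0, 0], [0, -1, 0, -1, 0, 0, 0, 0], [0, 0, 1, 1, 0, 0, 0, 0], [0, 1, 0, 0, 0, 0, 0, 0], [0, 0, 0, 1, 1, 0, 0, 0], [0, 0, 0, 0, 0, 1, 0, 0], [0, 0, 0, 0, 0, 0, 1, 0], [0, 0, 0, 0, 0, 0, 0, 1]]),
  (1, mt [[1, 0, 0, 0, 0, 0, 0, 0], [0, -1, 0, 0, 0, 0, 0, 0], [0, 0, 1, 0, 0, 0, 0, 0], [0, 1, 0, 1, 0, 0, 0, 0], [0, 0, 0, 0, 1, 0, 0, 0], [0, 0, 0, 0, 0, 1, 0, 0], [0, 0, 0, 0, 0, 0, 1, 0], [0, 0, 0, 0, 0, 0, 0, 1]])]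

theorem cv_ok : ChainOK Am cv := by decide +kernel

theorem comm : CommOK (hd cv) (hd cw) := by decide +kernel

/-- the eigenvector `b`, fixed by `v` -/
def B : List Q4 := [(1, 0, 0, 0), (0, 0, 0, -1), (0, 0, 0, 0), (0, 0, 0, 1), (0, 0, 0, -1), (-1, 0, -1, 0), (1, 0, 1, 1), (-1, -1, 0, -1)]

/-- the eigenvector `a` -/
def A : List Q4 := [(1, 1, 0, 0), (0, -1, -1, 0), (0, -1, 1, 0), (-1, 0, -1, -1), (0, 1, 1, 1), (1, 0, 0, 0), (0, 0, 0, 1), (0, 0, 0, -1)]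

theorem eb : EigQ (-1, -1, -1, -1) (hd cw) (0, 1, 0, 0) B := by decide +kernel

theorem ea : EigQ (-1, -1, -1, -1) (hd cw) (0, 1, 0, 0) A := by decide +kernel

theorem evb : EigQ (-1, -1, -1, -1) (hd cv) (1, 0, 0, 0) B := by decide +kernel

theorem eva : EigQ (-1, -1, -1, -1) (hd cv) (0, 1, 0, 0) A := by decide +kernel

theorem ib : ∃ i : Fin 8, B.getD i (0, 0, 0, 0) = (1, 0, 0, 0) := ⟨0, rfl⟩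

theorem ia : ∃ i : Fin 8, A.getD i (0, 0, 0, 0) = (1, 0, 0, 0) := ⟨5, rfl⟩

theorem ps20 : ps4 (-1, -1, -1, -1) [true, false, true, false, false] B R8 = (2300100, 0, 0, 0) := by decide +kernel

theorem ct20 : mul4 (-1, -1, -1, -1) (1, 0, 0, 0) (ps4 (-1, -1, -1, -1) [true, false, true, false, false] B R8) = (2300100, 0, 0, 0) := by
  rw [ps20]
  decide +kernel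

theorem ps30 : ps4 (-1, -1, -1, -1) [true, true, true, true, false] B R8 = (-1144893750, 0, 0, 0) := by decide +kernel

theorem ct30 : mul4 (-1, -1, -1, -1) (-1, 0, 0, 0) (ps4 (-1, -1, -1, -1) [true, true, true, true, false] B R8) = (1144893750, 0, 0, 0) := by
  rw [ps30]
  decide +kernel

theorem ps50 : ps4 (-1, -1, -1, -1) [true, true, false, false, true, false] B R8 = (-457212665937500, 0, 0, 0) := by decide +kernel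

theorem ct50 : mul4 (-1, -1, -1, -1) (-1, 0, 0, 0) (ps4 (-1, -1, -1, -1) [true, true, false, false, true, false] B R8) = (457212665937500, 0, 0, 0) := by
  rw [ps50]
  decide +kernel

end D5

namespace D10

/-- the element `w` -/
def cw : List (Fin 8 × Mat 8) := [
  (2, mt [[0, -1, -1, -1, -1, -1, -1, -1], [0, 0, 0, 0, 1, 0, 0, 0], [1, 2, 3, 4, 3, 2, 1, 1], [-1, -1, -2, -3, -3, -2, -1, -1], [0, 0, 0, 1, 1, 1, 1, 1], [1, 1, 2, 2, 2, 2, 1, 0], [0, -1, -1, -2, -2, -2, -1, 0], [0, 1, 0, 1, 1, 1, 0, 0]]),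
  (3, mt [[0, -1, 0, -1, -1, -1, -1, -1], [0, 0, 0, 0, 1, 0, 0, 0], [1, 2, 2, 4, 3, 2, 1, 1], [-1, -1, -2, -3, -3, -2, -1, -1], [0, 0, 1, 1, 1, 1, 1, 1], [1, 1, 1, 2, 2, 2, 1, 0], [0, -1, -1, -2, -2, -2, -1, 0], [0, 1, 1, 1, 1, 1, 0, 0]]),
  (4, mt [[0, -1, 0, -1, -1, -1, -1, -1], [0, 0, 0, 1, 1, 0, 0, 0], [1, 2, 2, 3, 3, 2, 1, 1], [-1, -1, -2, -3, -3, -2, -1, -1], [0, 0, 1, 1, 1, 1, 1, 1], [1, 1, 1, 2, 2, 2, 1, 0], [0, -1, -1, -2, -2, -2, -1, 0], [0, 1, 1, 2, 1, 1, 0, 0]]),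
  (5, mt [[0, -1, 0, -1, -1, -1, -1, -1], [0, 0, 0, 1, 0, 0, 0, 0], [1, 2, 2, 3, 2, 2, 1, 1], [-1, -1, -2, -3, -2, -2, -1, -1], [0, 0, 1, 1, 1, 1, 1, 1], [1, 1, 1, 2, 2, 2, 1, 0], [0, -1, -1, -2, -2, -2, -1, 0], [0, 1, 1, 2, 2, 1, 0, 0]]),
  (4, mt [[0, -1, 0, -1, -1, -1, -1, -1], [0, 0, 0, 1, 0, 0, 0, 0], [1, 2, 2, 3, 2, 1, 1, 1], [-1, -1, -2, -3, -2, -1, -1, -1], [0, 0, 1, 1, 1, 1, 1, 1], [1, 1, 1, 2, 2, 1, 1, 0], [0, -1, -1, -2, -2, -1, -1, 0], [0, 1, 1, 2, 2, 1, 0, 0]]),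
  (3, mt [[0, -1, 0, -1, -1, -1, -1, -1], [0, 0, 0, 1, 1, 0, 0, 0], [1, 2, 2, 3, 2, 1, 1, 1], [-1, -1, -2, -3, -2, -1, -1, -1], [0, 0, 1, 1, 1, 1, 1, 1], [1, 1, 1, 2, 1, 1, 1, 0], [0, -1, -1, -2, -1, -1, -1, 0], [0, 1, 1, 2, 1, 1, 0, 0]]),
  (1, mt [[0, -1, 0, -1, -1, -1, -1, -1], [0, 0, 0, 0, 1, 0, 0, 0], [1, 2, 2, 3, 2, 1, 1, 1], [-1, -1, -2, -2, -2, -1, -1, -1], [0, 0, 1, 1, 1, 1, 1, 1], [1, 1, 1, 1, 1, 1, 1, 0], [0, -1, -1, -1, -1, -1, -1, 0], [0, 1, 1, 1, 1, 1, 0, 0]]),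
  (2, mt [[0, 0, 0, -1, -1, -1, -1, -1], [0, 0, 0, 0, 1, 0, 0, 0], [1, 1, 2, 3, 2, 1, 1, 1], [-1, -1, -2, -2, -2, -1, -1, -1], [0, 1, 1, 1, 1, 1, 1, 1], [1, 0, 1, 1, 1, 1, 1, 0], [0, 0, -1, -1, -1, -1, -1, 0], [0, 0, 1, 1, 1, 1, 0, 0]]),
  (0, mt [[0, 0, -1, -1, -1, -1, -1, -1], [0, 0, 0, 0, 1, 0, 0, 0], [1, 1, 2, 3, 2, 1, 1, 1], [-1, -1, -1, -2, -2, -1, -1, -1], [0, 1, 0, 1, 1, 1, 1, 1], [1, 0, 1, 1, 1, 1, 1, 0], [0, 0, 0, -1, -1, -1, -1, 0], [0, 0, 0, 1, 1, 1, 0, 0]]),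
  (3, mt [[-1, 0, -1, -1, -1, -1, -1, -1], [0, 0, 0, 0, 1, 0, 0, 0], [1, 1, 2, 3, 2, 1, 1, 1], [0, -1, -1, -2, -2, -1, -1, -1], [0, 1, 0, 1, 1, 1, 1, 1], [0, 0, 1, 1, 1, 1, 1, 0], [0, 0, 0, -1, -1, -1, -1, 0], [0, 0, 0, 1, 1, 1, 0, 0]]),
  (2, mt [[-1, 0, -1, -1, -1, -1, -1, -1], [0, 0, 0, 1, 1, 0, 0, 0], [1, 1, 2, 2, 2, 1, 1, 1], [0, -1, -1, -2, -2, -1, -1, -1], [0, 1, 0, 1, 1, 1, 1, 1], [0, 0, 1, 1, 1, 1, 1, 0], [0, 0, 0, 0, -1, -1, -1, 0], [0, 0, 0, 0, 1, 1, 0, 0]]),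
  (4, mt [[-1, 0, -1, -1, -1, -1, -1, -1], [0, 0, 1, 1, 1, 0, 0, 0], [1, 1, 1, 2, 2, 1, 1, 1], [0, -1, -1, -2, -2, -1, -1, -1], [0, 1, 1, 1, 1, 1, 1, 1], [0, 0, 0, 1, 1, 1, 1, 0], [0, 0, 0, 0, -1, -1, -1, 0], [0, 0, 0, 0, 1, 1, 0, 0]]),
  (3, mt [[-1, 0, -1, -1, -1, -1, -1, -1], [0, 0, 1, 1, 0, 0, 0, 0], [1, 1, 1, 2, 1, 1, 1, 1], [0, -1, -1, -2, -1, -1, -1, -1], [0, 1, 1, 1, 1, 1, 1, 1], [0, 0, 0, 1, 1, 1, 1, 0], [0, 0, 0, 0, 0, -1, -1, 0], [0, 0, 0, 0, 0, 1, 0, 0]]),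
  (6, mt [[-1, 0, -1, -1, -1, -1, -1, -1], [0, 0, 1, 0, 0, 0, 0, 0], [1, 1, 1, 1, 1, 1, 1, 1], [0, -1, -1, -1, -1, -1, -1, -1], [0, 1, 1, 2, 1, 1, 1, 1], [0, 0, 0, 0, 1, 1, 1, 0], [0, 0, 0, 0, 0, -1, -1, 0], [0, 0, 0, 0, 0, 1, 0, 0]]),
  (5, mt [[-1, 0, -1, -1, -1, -1, -1, -1], [0, 0, 1, 0, 0, 0, 0, 0], [1, 1, 1, 1, 1, 1, 1, 1], [0, -1, -1, -1, -1, -1, -1, -1], [0, 1, 1, 2, 1, 1, 1, 1], [0, 0, 0, 0, 1, 1, 0, 0], [0, 0, 0, 0, 0, -1, 0, 0], [0, 0, 0, 0, 0, 1, 1, 0]]),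
  (7, mt [[-1, 0, -1, -1, -1, -1, -1, -1], [0, 0, 1, 0, 0, 0, 0, 0], [1, 1, 1, 1, 1, 1, 1, 1], [0, -1, -1, -1, -1, -1, -1, -1], [0, 1, 1, 2, 1, 1, 1, 1], [0, 0, 0, 0, 1, 0, 0, 0], [0, 0, 0, 0, 0, 1, 0, 0], [0, 0, 0, 0, 0, 0, 1, 0]]),
  (6, mt [[-1, 0, -1, -1, -1, -1, -1, 0], [0, 0, 1, 0, 0, 0, 0, 0], [1, 1, 1, 1, 1, 1, 1, 0], [0, -1, -1, -1, -1, -1, -1, 0], [0, 1, 1, 2, 1, 1, 1, 0], [0, 0, 0, 0, 1, 0, 0, 0], [0, 0, 0, 0, 0, 1, 0, 0], [0, 0, 0, 0, 0, 0, 1, 1]]),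
  (5, mt [[-1, 0, -1, -1, -1, -1, 0, 0], [0, 0, 1, 0, 0, 0, 0, 0], [1, 1, 1, 1, 1, 1, 0, 0], [0, -1, -1, -1, -1, -1, 0, 0], [0, 1, 1, 2, 1, 1, 0, 0], [0, 0, 0, 0, 1, 0, 0, 0], [0, 0, 0, 0, 0, 1, 1, 0], [0, 0, 0, 0, 0, 0, 0, 1]]),
  (4, mt [[-1, 0, -1, -1, -1, 0, 0, 0], [0, 0, 1, 0, 0, 0, 0, 0], [1, 1, 1, 1, 1, 0, 0, 0], [0, -1, -1, -1, -1, 0, 0, 0], [0, 1, 1, 2, 1, 0, 0, 0], [0, 0, 0, 0, 1, 1, 0, 0], [0, 0, 0, 0, 0, 0, 1, 0], [0, 0, 0, 0, 0, 0, 0, 1]]),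
  (3, mt [[-1, 0, -1, -1, 0, 0, 0, 0], [0, 0, 1, 0, 0, 0, 0, 0], [1, 1, 1, 1, 0, 0, 0, 0], [0, -1, -1, -1, 0, 0, 0, 0], [0, 1, 1, 2, 1, 0, 0, 0], [0, 0, 0, 0, 0, 1, 0, 0], [0, 0, 0, 0, 0, 0, 1, 0], [0, 0, 0, 0, 0, 0, 0, 1]]),
  (1, mt [[-1, 0, -1, 0, 0, 0, 0, 0], [0, 0, 1, 1, 0, 0, 0, 0], [1, 1, 1, 1, 0, 0, 0, 0], [0, -1, -1, -1, 0, 0, 0, 0], [0, 1, 1, 1, 1, 0, 0, 0], [0, 0, 0, 0, 0, 1, 0, 0], [0, 0, 0, 0, 0, 0, 1, 0], [0, 0, 0, 0, 0, 0, 0, 1]]),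
  (2, mt [[-1, 0, -1, 0, 0, 0, 0, 0], [0, 1, 1, 1, 0, 0, 0, 0], [1, 0, 1, 1, 0, 0, 0, 0], [0, 0, -1, -1, 0, 0, 0, 0], [0, 0, 1, 1, 1, 0, 0, 0], [0, 0, 0, 0, 0, 1, 0, 0], [0, 0, 0, 0, 0, 0, 1, 0], [0, 0, 0, 0, 0, 0, 0, 1]]),
  (0, mt [[-1, 0, 0, 0, 0, 0, 0, 0], [0, 1, 0, 1, 0, 0, 0, 0], [1, 0, 1, 1, 0, 0, 0, 0], [0, 0, 0, -1, 0, 0, 0, 0], [0, 0, 0, 1, 1, 0, 0, 0], [0, 0, 0, 0, 0, 1, 0, 0], [0, 0, 0, 0, 0, 0, 1, 0], [0, 0, 0, 0, 0, 0, 0, 1]]),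
  (3, mt [[1, 0, 0, 0, 0, 0, 0, 0], [0, 1, 0, 1, 0, 0, 0, 0], [0, 0, 1, 1, 0, 0, 0, 0], [0, 0, 0, -1, 0, 0, 0, 0], [0, 0, 0, 1, 1, 0, 0, 0], [0, 0, 0, 0, 0, 1, 0, 0], [0, 0, 0, 0, 0, 0, 1, 0], [0, 0, 0, 0, 0, 0, 0, 1]])]

theorem cw_ok : ChainOK Am cw := by decide +kernel

/-- the reflection `v` -/
def cv : List (Fin 8 × Mat 8) := [
  (3, mt [[1, 1, 1, 2, 2, 1, 1, 1], [0, 0, 1, 1, 1, 0, 0, 0], [0, -1, 0, -1, -1, 0, 0, 0], [0, 0, -1, -1, -1, -1, -1, -1], [0, 1, 1, 2, 1, 1, 1, 1], [0, 0, 0, 0, 1, 1, 0, 0], [0, 0, 0, 0, 0, 0, 1, 0], [0, 0, 0, -1, -1, -1, -1, 0]]),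
  (4, mt [[1, 1, 1, 2, 2, 1, 1, 1], [0, 0, 1, 1, 1, 0, 0, 0], [0, -1, 0, -1, -1, 0, 0, 0], [0, 0, -1, -1, -1, -1, -1, -1], [0, 1, 1, 1, 1, 1, 1, 1], [0, 0, 0, 1, 1, 1, 0, 0], [0, 0, 0, 0, 0, 0, 1, 0], [0, 0, 0, 0, -1, -1, -1, 0]]),
  (3, mt [[1, 1, 1, 2, 1, 1, 1, 1], [0, 0, 1, 1, 0, 0, 0, 0], [0, -1, 0, -1, 0, 0, 0, 0], [0, 0, -1, -1, -1, -1, -1, -1], [0, 1, 1, 1, 1, 1, 1, 1], [0, 0, 0, 1, 1, 1, 0, 0], [0, 0, 0, 0, 0, 0, 1, 0], [0, 0, 0, 0, 0, -1, -1, 0]]),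
  (1, mt [[1, 1, 1, 1, 1, 1, 1, 1], [0, 0, 1, 0, 0, 0, 0, 0], [0, -1, 0, 0, 0, 0, 0, 0], [0, 0, -1, -1, -1, -1, -1, -1], [0, 1, 1, 2, 1, 1, 1, 1], [0, 0, 0, 0, 1, 1, 0, 0], [0, 0, 0, 0, 0, 0, 1, 0], [0, 0, 0, 0, 0, -1, -1, 0]]),
  (5, mt [[1, 0, 1, 1, 1, 1, 1, 1], [0, 0, 1, 0, 0, 0, 0, 0], [0, 1, 0, 0, 0, 0, 0, 0], [0, -1, -1, -1, -1, -1, -1, -1], [0, 1, 1, 2, 1, 1, 1, 1], [0, 0, 0, 0, 1, 1, 0, 0], [0, 0, 0, 0, 0, 0, 1, 0], [0, 0, 0, 0, 0, -1, -1, 0]]),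
  (6, mt [[1, 0, 1, 1, 1, 1, 1, 1], [0, 0, 1, 0, 0, 0, 0, 0], [0, 1, 0, 0, 0, 0, 0, 0], [0, -1, -1, -1, -1, -1, -1, -1], [0, 1, 1, 2, 1, 1, 1, 1], [0, 0, 0, 0, 1, 0, 0, 0], [0, 0, 0, 0, 0, 1, 1, 0], [0, 0, 0, 0, 0, 0, -1, 0]]),
  (7, mt [[1, 0, 1, 1, 1, 1, 1, 1], [0, 0, 1, 0, 0, 0, 0, 0], [0, 1, 0, 0, 0, 0, 0, 0], [0, -1, -1, -1, -1, -1, -1, -1], [0, 1, 1, 2, 1, 1, 1, 1], [0, 0, 0, 0, 1, 0, 0, 0], [0, 0, 0, 0, 0, 1, 0, 0], [0, 0, 0, 0, 0, 0, 1, 0]]),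
  (6, mt [[1, 0, 1, 1, 1, 1, 1, 0], [0, 0, 1, 0, 0, 0, 0, 0], [0, 1, 0, 0, 0, 0, 0, 0], [0, -1, -1, -1, -1, -1, -1, 0], [0, 1, 1, 2, 1, 1, 1, 0], [0, 0, 0, 0, 1, 0, 0, 0], [0, 0, 0, 0, 0, 1, 0, 0], [0, 0, 0, 0, 0, 0, 1, 1]]),
  (5, mt [[1, 0, 1, 1, 1, 1, 0, 0], [0, 0, 1, 0, 0, 0, 0, 0], [0, 1, 0, 0, 0, 0, 0, 0], [0, -1, -1, -1, -1, -1, 0, 0], [0, 1, 1, 2, 1, 1, 0, 0], [0, 0, 0, 0, 1, 0, 0, 0], [0, 0, 0, 0, 0, 1, 1, 0], [0, 0, 0, 0, 0, 0, 0, 1]]),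
  (4, mt [[1, 0, 1, 1, 1, 0, 0, 0], [0, 0, 1, 0, 0, 0, 0, 0], [0, 1, 0, 0, 0, 0, 0, 0], [0, -1, -1, -1, -1, 0, 0, 0], [0, 1, 1, 2, 1, 0, 0, 0], [0, 0, 0, 0, 1, 1, 0, 0], [0, 0, 0, 0, 0, 0, 1, 0], [0, 0, 0, 0, 0, 0, 0, 1]]),
  (3, mt [[1, 0, 1, 1, 0, 0, 0, 0], [0, 0, 1, 0, 0, 0, 0, 0], [0, 1, 0, 0, 0, 0, 0, 0], [0, -1, -1, -1, 0, 0, 0, 0], [0, 1, 1, 2, 1, 0, 0, 0], [0, 0, 0, 0, 0, 1, 0, 0], [0, 0, 0, 0, 0, 0, 1, 0], [0, 0, 0, 0, 0, 0, 0, 1]]),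
  (1, mt [[1, 0, 1, 0, 0, 0, 0, 0], [0, 0, 1, 1, 0, 0, 0, 0], [0, 1, 0, 1, 0, 0, 0, 0], [0, -1, -1, -1, 0, 0, 0, 0], [0, 1, 1, 1, 1, 0, 0, 0], [0, 0, 0, 0, 0, 1, 0, 0], [0, 0, 0, 0, 0, 0, 1, 0], [0, 0, 0, 0, 0, 0, 0, 1]]),
  (2, mt [[1, 0, 1, 0, 0, 0, 0, 0], [0, 1, 1, 1, 0, 0, 0, 0], [0, 0, 0, 1, 0, 0, 0, 0], [0, 0, -1, -1, 0, 0, 0, 0], [0, 0, 1, 1, 1, 0, 0, 0], [0, 0, 0, 0, 0, 1, 0, 0], [0, 0, 0, 0, 0, 0, 1, 0], [0, 0, 0, 0, 0, 0, 0, 1]]),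
  (3, mt [[1, 0, 0, 0, 0, 0, 0, 0], [0, 1, 0, 1, 0, 0, 0, 0], [0, 0, 1, 1, 0, 0, 0, 0], [0, 0, 0, -1, 0, 0, 0, 0], [0, 0, 0, 1, 1, 0, 0, 0], [0, 0, 0, 0, 0, 1, 0, 0], [0, 0, 0, 0, 0, 0, 1, 0], [0, 0, 0, 0, 0, 0, 0, 1]])]

theorem cv_ok : ChainOK Am cv := by decide +kernel

theorem comm : CommOK (hd cv) (hd cw) := by decide +kernel

/-- the eigenvector `b`, fixed by `v` -/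
def B : List Q4 := [(-1, 1, -1, 1), (0, 0, 0, 0), (1, 0, 0, 0), (-1, 0, 0, 0), (0, 0, 0, 0), (1, 0, 1, -1), (0, -1, 0, 1), (0, 1, -1, 0)]

/-- the eigenvector `a` -/
def A : List Q4 := [(1, 0, 0, 0), (1, -1, -1, 1), (-1, 1, -1, 1), (0, -1, 2, -1), (-1, 2, -2, 0), (1, -1, 1, 0), (0, 0, 0, 0), (0, -1, 1, -1)]

theorem eb : EigQ (-1, 1, -1, 1) (hd cw) (0, 1, 0, 0) B := by decide +kernel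

theorem ea : EigQ (-1, 1, -1, 1) (hd cw) (0, 1, 0, 0) A := by decide +kernel

theorem evb : EigQ (-1, 1, -1, 1) (hd cv) (1, 0, 0, 0) B := by decide +kernel

theorem eva : EigQ (-1, 1, -1, 1) (hd cv) (0, 0, 0, -1) A := by decide +kernel

theorem ib : ∃ i : Fin 8, B.getD i (0, 0, 0, 0) = (1, 0, 0, 0) := ⟨2, rfl⟩

theorem ia : ∃ i : Fin 8, A.getD i (0, 0, 0, 0) = (1, 0, 0, 0) := ⟨0, rfl⟩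

theorem ps20 : ps4 (-1, 1, -1, 1) [true, false, true, false, false] B R8 = (2300100, 0, 0, 0) := by decide +kernel

theorem ct20 : mul4 (-1, 1, -1, 1) (1, 0, 0, 0) (ps4 (-1, 1, -1, 1) [true, false, true, false, false] B R8) = (2300100, 0, 0, 0) := by
  rw [ps20]
  decide +kernel

theorem ps30 : ps4 (-1, 1, -1, 1) [true, true, true, true, false] B R8 = (-1144893750, 0, 0, 0) := by decide +kernel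

theorem ct30 : mul4 (-1, 1, -1, 1) (-1, 0, 0, 0) (ps4 (-1, 1, -1, 1) [true, true, true, true, false] B R8) = (1144893750, 0, 0, 0) := by
  rw [ps30]
  decide +kernel

theorem ps50 : ps4 (-1, 1, -1, 1) [true, true, false, false, true, false] B R8 = (-457212665937500, 0, 0, 0) := by decide +kernel

theorem ct50 : mul4 (-1, 1, -1, 1) (-1, 0, 0, 0) (ps4 (-1, 1, -1, 1) [true, true, false, false, true, false] B R8) = (457212665937500, 0, 0, 0) := by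
  rw [ps50]
  decide +kernel

end D10

namespace D8

/-- the element `w` -/
def cw : List (Fin 8 × Mat 8) := [
  (1, mt [[-1, -1, -2, -3, -3, -2, -1, -1], [0, 1, 0, 1, 1, 0, 0, 0], [0, -1, -1, -1, 0, 0, 0, 0], [0, 0, 1, 0, 0, 0, 0, 0], [0, 0, 0, 1, 0, 0, 0, 0], [1, 1, 1, 1, 1, 1, 1, 1], [0, 0, 0, 0, 0, 0, -1, -1], [0, 1, 1, 2, 2, 2, 2, 1]]),
  (3, mt [[-1, -2, -2, -3, -3, -2, -1, -1], [0, 0, 0, 1, 1, 0, 0, 0], [0, 0, -1, -1, 0, 0, 0, 0], [0, 0, 1, 0, 0, 0, 0, 0], [0, 1, 0, 1, 0, 0, 0, 0], [1, 0, 1, 1, 1, 1, 1, 1], [0, 0, 0, 0, 0, 0, -1, -1], [0, 1, 1, 2, 2, 2, 2, 1]]),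
  (2, mt [[-1, -2, -2, -4, -3, -2, -1, -1], [0, 0, 0, 0, 1, 0, 0, 0], [0, 0, -1, 0, 0, 0, 0, 0], [0, 0, 1, 1, 0, 0, 0, 0], [0, 1, 0, 0, 0, 0, 0, 0], [1, 0, 1, 1, 1, 1, 1, 1], [0, 0, 0, 0, 0, 0, -1, -1], [0, 1, 1, 2, 2, 2, 2, 1]]),
  (5, mt [[-1, -2, -3, -4, -3, -2, -1, -1], [0, 0, 0, 0, 1, 0, 0, 0], [0, 0, 1, 0, 0, 0, 0, 0], [0, 0, 0, 1, 0, 0, 0, 0], [0, 1, 0, 0, 0, 0, 0, 0], [1, 0, 1, 1, 1, 1, 1, 1], [0, 0, 0, 0, 0, 0, -1, -1], [0, 1, 1, 2, 2, 2, 2, 1]]),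
  (4, mt [[-1, -2, -3, -4, -3, -2, -1, -1], [0, 0, 0, 0, 1, 1, 0, 0], [0, 0, 1, 0, 0, 0, 0, 0], [0, 0, 0, 1, 0, 0, 0, 0], [0, 1, 0, 0, 0, 0, 0, 0], [1, 0, 1, 1, 1, 1, 1, 1], [0, 0, 0, 0, 0, -1, -1, -1], [0, 1, 1, 2, 2, 2, 2, 1]]),
  (3, mt [[-1, -2, -3, -4, -3, -2, -1, -1], [0, 0, 0, 0, 0, 1, 0, 0], [0, 0, 1, 0, 0, 0, 0, 0], [0, 0, 0, 1, 1, 0, 0, 0], [0, 1, 0, 0, 0, 0, 0, 0], [1, 0, 1, 1, 1, 1, 1, 1], [0, 0, 0, 0, -1, -1, -1, -1], [0, 1, 1, 2, 2, 2, 2, 1]]),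
  (1, mt [[-1, -2, -3, -4, -3, -2, -1, -1], [0, 0, 0, 0, 0, 1, 0, 0], [0, 0, 1, 1, 0, 0, 0, 0], [0, 0, 0, 0, 1, 0, 0, 0], [0, 1, 0, 1, 0, 0, 0, 0], [1, 0, 1, 1, 1, 1, 1, 1], [0, 0, 0, -1, -1, -1, -1, -1], [0, 1, 1, 2, 2, 2, 2, 1]]),
  (2, mt [[-1, -2, -3, -4, -3, -2, -1, -1], [0, 0, 0, 0, 0, 1, 0, 0], [0, 1, 1, 1, 0, 0, 0, 0], [0, 0, 0, 0, 1, 0, 0, 0], [0, 0, 0, 1, 0, 0, 0, 0], [1, 1, 1, 1, 1, 1, 1, 1], [0, -1, 0, -1, -1, -1, -1, -1], [0, 1, 1, 2, 2, 2, 2, 1]]),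
  (3, mt [[-1, -2, -2, -4, -3, -2, -1, -1], [0, 0, 0, 0, 0, 1, 0, 0], [0, 1, 0, 1, 0, 0, 0, 0], [0, 0, 0, 0, 1, 0, 0, 0], [0, 0, 1, 1, 0, 0, 0, 0], [1, 1, 1, 1, 1, 1, 1, 1], [0, -1, -1, -1, -1, -1, -1, -1], [0, 1, 1, 2, 2, 2, 2, 1]]),
  (4, mt [[-1, -2, -2, -3, -3, -2, -1, -1], [0, 0, 0, 0, 0, 1, 0, 0], [0, 1, 0, 0, 0, 0, 0, 0], [0, 0, 0, 1, 1, 0, 0, 0], [0, 0, 1, 0, 0, 0, 0, 0], [1, 1, 1, 2, 1, 1, 1, 1], [0, -1, -1, -2, -1, -1, -1, -1], [0, 1, 1, 2, 2, 2, 2, 1]]),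
  (5, mt [[-1, -2, -2, -3, -2, -2, -1, -1], [0, 0, 0, 0, 1, 1, 0, 0], [0, 1, 0, 0, 0, 0, 0, 0], [0, 0, 0, 1, 0, 0, 0, 0], [0, 0, 1, 0, 0, 0, 0, 0], [1, 1, 1, 2, 2, 1, 1, 1], [0, -1, -1, -2, -2, -1, -1, -1], [0, 1, 1, 2, 2, 2, 2, 1]]),
  (7, mt [[-1, -2, -2, -3, -2, -1, -1, -1], [0, 0, 0, 0, 1, 0, 0, 0], [0, 1, 0, 0, 0, 0, 0, 0], [0, 0, 0, 1, 0, 0, 0, 0], [0, 0, 1, 0, 0, 0, 0, 0], [1, 1, 1, 2, 2, 2, 1, 1], [0, -1, -1, -2, -2, -2, -1, -1], [0, 1, 1, 2, 2, 2, 2, 1]]),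
  (6, mt [[-1, -2, -2, -3, -2, -1, -1, 0], [0, 0, 0, 0, 1, 0, 0, 0], [0, 1, 0, 0, 0, 0, 0, 0], [0, 0, 0, 1, 0, 0, 0, 0], [0, 0, 1, 0, 0, 0, 0, 0], [1, 1, 1, 2, 2, 2, 1, 0], [0, -1, -1, -2, -2, -2, -1, 0], [0, 1, 1, 2, 2, 2, 2, 1]]),
  (5, mt [[-1, -2, -2, -3, -2, -1, 0, 0], [0, 0, 0, 0, 1, 0, 0, 0], [0, 1, 0, 0, 0, 0, 0, 0], [0, 0, 0, 1, 0, 0, 0, 0], [0, 0, 1, 0, 0, 0, 0, 0], [1, 1, 1, 2, 2, 2, 1, 0], [0, -1, -1, -2, -2, -2, -1, 0], [0, 1, 1, 2, 2, 2, 1, 1]]),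
  (4, mt [[-1, -2, -2, -3, -2, -1, 0, 0], [0, 0, 0, 0, 1, 1, 0, 0], [0, 1, 0, 0, 0, 0, 0, 0], [0, 0, 0, 1, 0, 0, 0, 0], [0, 0, 1, 0, 0, 0, 0, 0], [1, 1, 1, 2, 2, 1, 1, 0], [0, -1, -1, -2, -2, -1, -1, 0], [0, 1, 1, 2, 2, 1, 1, 1]]),
  (3, mt [[-1, -2, -2, -3, -2, -1, 0, 0], [0, 0, 0, 0, 0, 1, 0, 0], [0, 1, 0, 0, 0, 0, 0, 0], [0, 0, 0, 1, 1, 0, 0, 0], [0, 0, 1, 0, 0, 0, 0, 0], [1, 1, 1, 2, 1, 1, 1, 0], [0, -1, -1, -2, -1, -1, -1, 0], [0, 1, 1, 2, 1, 1, 1, 1]]),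
  (1, mt [[-1, -2, -2, -3, -2, -1, 0, 0], [0, 0, 0, 0, 0, 1, 0, 0], [0, 1, 0, 1, 0, 0, 0, 0], [0, 0, 0, 0, 1, 0, 0, 0], [0, 0, 1, 1, 0, 0, 0, 0], [1, 1, 1, 1, 1, 1, 1, 0], [0, -1, -1, -1, -1, -1, -1, 0], [0, 1, 1, 1, 1, 1, 1, 1]]),
  (2, mt [[-1, -1, -2, -3, -2, -1, 0, 0], [0, 0, 0, 0, 0, 1, 0, 0], [0, 0, 0, 1, 0, 0, 0, 0], [0, 0, 0, 0, 1, 0, 0, 0], [0, 1, 1, 1, 0, 0, 0, 0], [1, 0, 1, 1, 1, 1, 1, 0], [0, 0, -1, -1, -1, -1, -1, 0], [0, 0, 1, 1, 1, 1, 1, 1]]),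
  (0, mt [[-1, -1, -2, -3, -2, -1, 0, 0], [0, 0, 0, 0, 0, 1, 0, 0], [0, 0, 1, 1, 0, 0, 0, 0], [0, 0, 0, 0, 1, 0, 0, 0], [0, 1, 0, 1, 0, 0, 0, 0], [1, 0, 1, 1, 1, 1, 1, 0], [0, 0, 0, -1, -1, -1, -1, 0], [0, 0, 0, 1, 1, 1, 1, 1]]),
  (3, mt [[-1, -1, -2, -3, -2, -1, 0, 0], [0, 0, 0, 0, 0, 1, 0, 0], [1, 0, 1, 1, 0, 0, 0, 0], [0, 0, 0, 0, 1, 0, 0, 0], [0, 1, 0, 1, 0, 0, 0, 0], [0, 0, 1, 1, 1, 1, 1, 0], [0, 0, 0, -1, -1, -1, -1, 0], [0, 0, 0, 1, 1, 1, 1, 1]]),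
  (2, mt [[-1, -1, -2, -2, -2, -1, 0, 0], [0, 0, 0, 0, 0, 1, 0, 0], [1, 0, 1, 0, 0, 0, 0, 0], [0, 0, 0, 1, 1, 0, 0, 0], [0, 1, 0, 0, 0, 0, 0, 0], [0, 0, 1, 1, 1, 1, 1, 0], [0, 0, 0, 0, -1, -1, -1, 0], [0, 0, 0, 0, 1, 1, 1, 1]]),
  (4, mt [[-1, -1, -1, -2, -2, -1, 0, 0], [0, 0, 0, 0, 0, 1, 0, 0], [1, 0, 0, 0, 0, 0, 0, 0], [0, 0, 1, 1, 1, 0, 0, 0], [0, 1, 0, 0, 0, 0, 0, 0], [0, 0, 0, 1, 1, 1, 1, 0], [0, 0, 0, 0, -1, -1, -1, 0], [0, 0, 0, 0, 1, 1, 1, 1]]),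
  (3, mt [[-1, -1, -1, -2, -1, -1, 0, 0], [0, 0, 0, 0, 1, 1, 0, 0], [1, 0, 0, 0, 0, 0, 0, 0], [0, 0, 1, 1, 0, 0, 0, 0], [0, 1, 0, 0, 0, 0, 0, 0], [0, 0, 0, 1, 1, 1, 1, 0], [0, 0, 0, 0, 0, -1, -1, 0], [0, 0, 0, 0, 0, 1, 1, 1]]),
  (1, mt [[-1, -1, -1, -1, -1, -1, 0, 0], [0, 0, 0, 1, 1, 1, 0, 0], [1, 0, 0, 0, 0, 0, 0, 0], [0, 0, 1, 0, 0, 0, 0, 0], [0, 1, 0, 1, 0, 0, 0, 0], [0, 0, 0, 0, 1, 1, 1, 0], [0, 0, 0, 0, 0, -1, -1, 0], [0, 0, 0, 0, 0, 1, 1, 1]]),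
  (5, mt [[-1, 0, -1, -1, -1, -1, 0, 0], [0, 1, 0, 1, 1, 1, 0, 0], [1, 0, 0, 0, 0, 0, 0, 0], [0, 0, 1, 0, 0, 0, 0, 0], [0, 0, 0, 1, 0, 0, 0, 0], [0, 0, 0, 0, 1, 1, 1, 0], [0, 0, 0, 0, 0, -1, -1, 0], [0, 0, 0, 0, 0, 1, 1, 1]]),
  (4, mt [[-1, 0, -1, -1, -1, 0, 0, 0], [0, 1, 0, 1, 1, 0, 0, 0], [1, 0, 0, 0, 0, 0, 0, 0], [0, 0, 1, 0, 0, 0, 0, 0], [0, 0, 0, 1, 0, 0, 0, 0], [0, 0, 0, 0, 1, 1, 1, 0], [0, 0, 0, 0, 0, 0, -1, 0], [0, 0, 0, 0, 0, 0, 1, 1]]),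
  (3, mt [[-1, 0, -1, -1, 0, 0, 0, 0], [0, 1, 0, 1, 0, 0, 0, 0], [1, 0, 0, 0, 0, 0, 0, 0], [0, 0, 1, 0, 0, 0, 0, 0], [0, 0, 0, 1, 1, 0, 0, 0], [0, 0, 0, 0, 0, 1, 1, 0], [0, 0, 0, 0, 0, 0, -1, 0], [0, 0, 0, 0, 0, 0, 1, 1]]),
  (2, mt [[-1, 0, -1, 0, 0, 0, 0, 0], [0, 1, 0, 0, 0, 0, 0, 0], [1, 0, 0, 0, 0, 0, 0, 0], [0, 0, 1, 1, 0, 0, 0, 0], [0, 0, 0, 0, 1, 0, 0, 0], [0, 0, 0, 0, 0, 1, 1, 0], [0, 0, 0, 0, 0, 0, -1, 0], [0, 0, 0, 0, 0, 0, 1, 1]]),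
  (0, mt [[-1, 0, 0, 0, 0, 0, 0, 0], [0, 1, 0, 0, 0, 0, 0, 0], [1, 0, 1, 0, 0, 0, 0, 0], [0, 0, 0, 1, 0, 0, 0, 0], [0, 0, 0, 0, 1, 0, 0, 0], [0, 0, 0, 0, 0, 1, 1, 0], [0, 0, 0, 0, 0, 0, -1, 0], [0, 0, 0, 0, 0, 0, 1, 1]]),
  (6, mt [[1, 0, 0, 0, 0, 0, 0, 0], [0, 1, 0, 0, 0, 0, 0, 0], [0, 0, 1, 0, 0, 0, 0, 0], [0, 0, 0, 1, 0, 0, 0, 0], [0, 0, 0, 0, 1, 0, 0, 0], [0, 0, 0, 0, 0, 1, 1, 0], [0, 0, 0, 0, 0, 0, -1, 0], [0, 0, 0, 0, 0, 0, 1, 1]])]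

theorem cw_ok : ChainOK Am cw := by decide +kernel

/-- the reflection `v` -/
def cv : List (Fin 8 × Mat 8) := [
  (2, mt [[1, 0, 1, 1, 0, 0, 0, 0], [0, -1, -1, -2, -1, 0, 0, 0], [0, 0, 0, 0, 1, 0, 0, 0], [0, 1, 1, 1, 0, 0, 0, 0], [0, 0, -1, 0, 0, 0, 0, 0], [0, 0, 1, 1, 1, 1, 0, 0], [0, 0, 0, 0, 0, 0, 1, 0], [0, 0, 0, 0, 0, 0, 0, 1]]),
  (3, mt [[1, 0, 1, 1, 0, 0, 0, 0], [0, -1, -1, -2, -1, 0, 0, 0], [0, 0, 0, 0, 1, 0, 0, 0], [0, 1, 0, 1, 0, 0, 0, 0], [0, 0, 1, 0, 0, 0, 0, 0], [0, 0, 0, 1, 1, 1, 0, 0], [0, 0, 0, 0, 0, 0, 1, 0], [0, 0, 0, 0, 0, 0, 0, 1]]),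
  (2, mt [[1, 0, 1, 0, 0, 0, 0, 0], [0, -1, -1, -1, -1, 0, 0, 0], [0, 0, 0, 1, 1, 0, 0, 0], [0, 1, 0, 0, 0, 0, 0, 0], [0, 0, 1, 1, 0, 0, 0, 0], [0, 0, 0, 0, 1, 1, 0, 0], [0, 0, 0, 0, 0, 0, 1, 0], [0, 0, 0, 0, 0, 0, 0, 1]]),
  (4, mt [[1, 0, 0, 0, 0, 0, 0, 0], [0, -1, 0, -1, -1, 0, 0, 0], [0, 0, 1, 1, 1, 0, 0, 0], [0, 1, 0, 0, 0, 0, 0, 0], [0, 0, 0, 1, 0, 0, 0, 0], [0, 0, 0, 0, 1, 1, 0, 0], [0, 0, 0, 0, 0, 0, 1, 0], [0, 0, 0, 0, 0, 0, 0, 1]]),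
  (3, mt [[1, 0, 0, 0, 0, 0, 0, 0], [0, -1, 0, -1, 0, 0, 0, 0], [0, 0, 1, 1, 0, 0, 0, 0], [0, 1, 0, 0, 0, 0, 0, 0], [0, 0, 0, 1, 1, 0, 0, 0], [0, 0, 0, 0, 0, 1, 0, 0], [0, 0, 0, 0, 0, 0, 1, 0], [0, 0, 0, 0, 0, 0, 0, 1]]),
  (1, mt [[1, 0, 0, 0, 0, 0, 0, 0], [0, -1, 0, 0, 0, 0, 0, 0], [0, 0, 1, 0, 0, 0, 0, 0], [0, 1, 0, 1, 0, 0, 0, 0], [0, 0, 0, 0, 1, 0, 0, 0], [0, 0, 0, 0, 0, 1, 0, 0], [0, 0, 0, 0, 0, 0, 1, 0], [0, 0, 0, 0, 0, 0, 0, 1]])]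

theorem cv_ok : ChainOK Am cv := by decide +kernel

theorem comm : CommOK (hd cv) (hd cw) := by decide +kernel

/-- the eigenvector `b`, fixed by `v` -/
def B : List Q4 := [(-1, 0, 0, 1), (0, 0, 0, 0), (0, 0, 0, 0), (0, 0, 0, 0), (0, 0, 0, 0), (1, 0, 0, 0), (-1, 0, 1, 0), (1, 1, -1, -1)]

/-- the eigenvector `a` -/
def A : List Q4 := [(0, 0, 1, -1), (0, 1, 0, 1), (0, 1, -2, 1), (1, -2, 1, 0), (-2, 1, 0, -1), (1, 0, 0, 0), (0, 0, 0, 0), (0, 0, 0, 0)]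

theorem eb : EigQ (-1, 0, 0, 0) (hd cw) (0, 1, 0, 0) B := by decide +kernel

theorem ea : EigQ (-1, 0, 0, 0) (hd cw) (0, 1, 0, 0) A := by decide +kernel

theorem evb : EigQ (-1, 0, 0, 0) (hd cv) (1, 0, 0, 0) B := by decide +kernel

theorem eva : EigQ (-1, 0, 0, 0) (hd cv) (0, 0, -1, 0) A := by decide +kernel

theorem ib : ∃ i : Fin 8, B.getD i (0, 0, 0, 0) = (1, 0, 0, 0) := ⟨5, rfl⟩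

theorem ia : ∃ i : Fin 8, A.getD i (0, 0, 0, 0) = (1, 0, 0, 0) := ⟨5, rfl⟩

theorem ps8 : ps4 (-1, 0, 0, 0) [true, false, false, false] B R8 = (48960, 34560, 0, -34560) := by decide +kernel

theorem ct8 : mul4 (-1, 0, 0, 0) (17, -12, 0, 12) (ps4 (-1, 0, 0, 0) [true, false, false, false] B R8) = (2880, 0, 0, 0) := by
  rw [ps8]
  decide +kernel

end D8

namespace D12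

/-- the element `w` -/
def cw : List (Fin 8 × Mat 8) := [
  (2, mt [[0, -1, -1, -1, 0, 0, 0, 0], [0, 0, 1, 1, 1, 1, 1, 0], [1, 2, 2, 3, 2, 2, 1, 0], [-1, -1, -2, -3, -2, -2, -1, 0], [0, 0, 0, 1, 0, 0, 0, 0], [1, 1, 2, 2, 2, 2, 1, 1], [0, -1, -1, -2, -2, -2, -1, -1], [0, 1, 1, 2, 2, 1, 0, 0]]),
  (3, mt [[0, -1, 0, -1, 0, 0, 0, 0], [0, 0, 0, 1, 1, 1, 1, 0], [1, 2, 2, 3, 2, 2, 1, 0], [-1, -1, -2, -3, -2, -2, -1, 0], [0, 0, 1, 1, 0, 0, 0, 0], [1, 1, 1, 2, 2, 2, 1, 1], [0, -1, -1, -2, -2, -2, -1, -1], [0, 1, 1, 2, 2, 1, 0, 0]]),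
  (1, mt [[0, -1, 0, 0, 0, 0, 0, 0], [0, 0, 0, 0, 1, 1, 1, 0], [1, 2, 2, 3, 2, 2, 1, 0], [-1, -1, -2, -2, -2, -2, -1, 0], [0, 0, 1, 0, 0, 0, 0, 0], [1, 1, 1, 2, 2, 2, 1, 1], [0, -1, -1, -2, -2, -2, -1, -1], [0, 1, 1, 2, 2, 1, 0, 0]]),
  (5, mt [[0, 1, 0, 0, 0, 0, 0, 0], [0, 0, 0, 0, 1, 1, 1, 0], [1, 1, 2, 3, 2, 2, 1, 0], [-1, -1, -2, -2, -2, -2, -1, 0], [0, 0, 1, 0, 0, 0, 0, 0], [1, 1, 1, 2, 2, 2, 1, 1], [0, -1, -1, -2, -2, -2, -1, -1], [0, 1, 1, 2, 2, 1, 0, 0]]),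
  (4, mt [[0, 1, 0, 0, 0, 0, 0, 0], [0, 0, 0, 0, 1, 1, 1, 0], [1, 1, 2, 3, 2, 1, 1, 0], [-1, -1, -2, -2, -2, -1, -1, 0], [0, 0, 1, 0, 0, 0, 0, 0], [1, 1, 1, 2, 2, 1, 1, 1], [0, -1, -1, -2, -2, -1, -1, -1], [0, 1, 1, 2, 2, 1, 0, 0]]),
  (3, mt [[0, 1, 0, 0, 0, 0, 0, 0], [0, 0, 0, 0, 0, 1, 1, 0], [1, 1, 2, 3, 2, 1, 1, 0], [-1, -1, -2, -2, -1, -1, -1, 0], [0, 0, 1, 0, 0, 0, 0, 0], [1, 1, 1, 2, 1, 1, 1, 1], [0, -1, -1, -2, -1, -1, -1, -1], [0, 1, 1, 2, 1, 1, 0, 0]]),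
  (1, mt [[0, 1, 0, 1, 0, 0, 0, 0], [0, 0, 0, 0, 0, 1, 1, 0], [1, 1, 2, 2, 2, 1, 1, 0], [-1, -1, -2, -2, -1, -1, -1, 0], [0, 0, 1, 1, 0, 0, 0, 0], [1, 1, 1, 1, 1, 1, 1, 1], [0, -1, -1, -1, -1, -1, -1, -1], [0, 1, 1, 1, 1, 1, 0, 0]]),
  (2, mt [[0, 0, 0, 1, 0, 0, 0, 0], [0, 0, 0, 0, 0, 1, 1, 0], [1, 1, 2, 2, 2, 1, 1, 0], [-1, -1, -2, -2, -1, -1, -1, 0], [0, 1, 1, 1, 0, 0, 0, 0], [1, 0, 1, 1, 1, 1, 1, 1], [0, 0, -1, -1, -1, -1, -1, -1], [0, 0, 1, 1, 1, 1, 0, 0]]),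
  (0, mt [[0, 0, 1, 1, 0, 0, 0, 0], [0, 0, 0, 0, 0, 1, 1, 0], [1, 1, 1, 2, 2, 1, 1, 0], [-1, -1, -1, -2, -1, -1, -1, 0], [0, 1, 0, 1, 0, 0, 0, 0], [1, 0, 1, 1, 1, 1, 1, 1], [0, 0, 0, -1, -1, -1, -1, -1], [0, 0, 0, 1, 1, 1, 0, 0]]),
  (3, mt [[1, 0, 1, 1, 0, 0, 0, 0], [0, 0, 0, 0, 0, 1, 1, 0], [0, 1, 1, 2, 2, 1, 1, 0], [0, -1, -1, -2, -1, -1, -1, 0], [0, 1, 0, 1, 0, 0, 0, 0], [0, 0, 1, 1, 1, 1, 1, 1], [0, 0, 0, -1, -1, -1, -1, -1], [0, 0, 0, 1, 1, 1, 0, 0]]),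
  (2, mt [[1, 0, 1, 0, 0, 0, 0, 0], [0, 0, 0, 0, 0, 1, 1, 0], [0, 1, 1, 2, 2, 1, 1, 0], [0, -1, -1, -1, -1, -1, -1, 0], [0, 1, 0, 0, 0, 0, 0, 0], [0, 0, 1, 1, 1, 1, 1, 1], [0, 0, 0, 0, -1, -1, -1, -1], [0, 0, 0, 0, 1, 1, 0, 0]]),
  (4, mt [[1, 0, 0, 0, 0, 0, 0, 0], [0, 0, 0, 0, 0, 1, 1, 0], [0, 1, 1, 2, 2, 1, 1, 0], [0, -1, 0, -1, -1, -1, -1, 0], [0, 1, 0, 0, 0, 0, 0, 0], [0, 0, 0, 1, 1, 1, 1, 1], [0, 0, 0, 0, -1, -1, -1, -1], [0, 0, 0, 0, 1, 1, 0, 0]]),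
  (3, mt [[1, 0, 0, 0, 0, 0, 0, 0], [0, 0, 0, 0, 1, 1, 1, 0], [0, 1, 1, 2, 1, 1, 1, 0], [0, -1, 0, -1, -1, -1, -1, 0], [0, 1, 0, 0, 0, 0, 0, 0], [0, 0, 0, 1, 1, 1, 1, 1], [0, 0, 0, 0, 0, -1, -1, -1], [0, 0, 0, 0, 0, 1, 0, 0]]),
  (1, mt [[1, 0, 0, 0, 0, 0, 0, 0], [0, 0, 0, 1, 1, 1, 1, 0], [0, 1, 1, 1, 1, 1, 1, 0], [0, -1, 0, -1, -1, -1, -1, 0], [0, 1, 0, 1, 0, 0, 0, 0], [0, 0, 0, 0, 1, 1, 1, 1], [0, 0, 0, 0, 0, -1, -1, -1], [0, 0, 0, 0, 0, 1, 0, 0]]),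
  (6, mt [[1, 0, 0, 0, 0, 0, 0, 0], [0, 1, 0, 1, 1, 1, 1, 0], [0, 0, 1, 1, 1, 1, 1, 0], [0, 0, 0, -1, -1, -1, -1, 0], [0, 0, 0, 1, 0, 0, 0, 0], [0, 0, 0, 0, 1, 1, 1, 1], [0, 0, 0, 0, 0, -1, -1, -1], [0, 0, 0, 0, 0, 1, 0, 0]]),
  (5, mt [[1, 0, 0, 0, 0, 0, 0, 0], [0, 1, 0, 1, 1, 1, 0, 0], [0, 0, 1, 1, 1, 1, 0, 0], [0, 0, 0, -1, -1, -1, 0, 0], [0, 0, 0, 1, 0, 0, 0, 0], [0, 0, 0, 0, 1, 1, 1, 1], [0, 0, 0, 0, 0, -1, -1, -1], [0, 0, 0, 0, 0, 1, 1, 0]]),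
  (4, mt [[1, 0, 0, 0, 0, 0, 0, 0], [0, 1, 0, 1, 1, 0, 0, 0], [0, 0, 1, 1, 1, 0, 0, 0], [0, 0, 0, -1, -1, 0, 0, 0], [0, 0, 0, 1, 0, 0, 0, 0], [0, 0, 0, 0, 1, 1, 1, 1], [0, 0, 0, 0, 0, 0, -1, -1], [0, 0, 0, 0, 0, 0, 1, 0]]),
  (3, mt [[1, 0, 0, 0, 0, 0, 0, 0], [0, 1, 0, 1, 0, 0, 0, 0], [0, 0, 1, 1, 0, 0, 0, 0], [0, 0, 0, -1, 0, 0, 0, 0], [0, 0, 0, 1, 1, 0, 0, 0], [0, 0, 0, 0, 0, 1, 1, 1], [0, 0, 0, 0, 0, 0, -1, -1], [0, 0, 0, 0, 0, 0, 1, 0]]),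
  (7, mt [[1, 0, 0, 0, 0, 0, 0, 0], [0, 1, 0, 0, 0, 0, 0, 0], [0, 0, 1, 0, 0, 0, 0, 0], [0, 0, 0, 1, 0, 0, 0, 0], [0, 0, 0, 0, 1, 0, 0, 0], [0, 0, 0, 0, 0, 1, 1, 1], [0, 0, 0, 0, 0, 0, -1, -1], [0, 0, 0, 0, 0, 0, 1, 0]]),
  (6, mt [[1, 0, 0, 0, 0, 0, 0, 0], [0, 1, 0, 0, 0, 0, 0, 0], [0, 0, 1, 0, 0, 0, 0, 0], [0, 0, 0, 1, 0, 0, 0, 0], [0, 0, 0, 0, 1, 0, 0, 0], [0, 0, 0, 0, 0, 1, 1, 0], [0, 0, 0, 0, 0, 0, -1, 0], [0, 0, 0, 0, 0, 0, 1, 1]])]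

theorem cw_ok : ChainOK Am cw := by decide +kernel

/-- the reflection `v` -/
def cv : List (Fin 8 × Mat 8) := [
  (1, mt [[-1, -1, -2, -2, -1, -1, -1, 0], [0, 0, 0, 0, 1, 1, 1, 0], [1, 0, 1, 0, 0, 0, 0, 0], [0, 1, 0, 1, 0, 0, 0, 0], [0, 0, 1, 1, 1, 0, 0, 0], [0, 0, 0, 0, 0, 1, 0, 0], [0, -1, -1, -1, -1, -1, 0, 0], [0, 1, 1, 1, 1, 1, 1, 1]]),
  (2, mt [[-1, -1, -2, -2, -1, -1, -1, 0], [0, 0, 0, 0, 1, 1, 1, 0], [1, 0, 1, 0, 0, 0, 0, 0], [0, 0, 0, 1, 0, 0, 0, 0], [0, 1, 1, 1, 1, 0, 0, 0], [0, 0, 0, 0, 0, 1, 0, 0], [0, 0, -1, -1, -1, -1, 0, 0], [0, 0, 1, 1, 1, 1, 1, 1]]),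
  (3, mt [[-1, -1, -1, -2, -1, -1, -1, 0], [0, 0, 0, 0, 1, 1, 1, 0], [1, 0, 0, 0, 0, 0, 0, 0], [0, 0, 1, 1, 0, 0, 0, 0], [0, 1, 0, 1, 1, 0, 0, 0], [0, 0, 0, 0, 0, 1, 0, 0], [0, 0, 0, -1, -1, -1, 0, 0], [0, 0, 0, 1, 1, 1, 1, 1]]),
  (1, mt [[-1, -1, -1, -1, -1, -1, -1, 0], [0, 0, 0, 1, 1, 1, 1, 0], [1, 0, 0, 0, 0, 0, 0, 0], [0, 0, 1, 0, 0, 0, 0, 0], [0, 1, 0, 1, 1, 0, 0, 0], [0, 0, 0, 0, 0, 1, 0, 0], [0, 0, 0, 0, -1, -1, 0, 0], [0, 0, 0, 0, 1, 1, 1, 1]]),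
  (4, mt [[-1, 0, -1, -1, -1, -1, -1, 0], [0, 1, 0, 1, 1, 1, 1, 0], [1, 0, 0, 0, 0, 0, 0, 0], [0, 0, 1, 0, 0, 0, 0, 0], [0, 0, 0, 1, 1, 0, 0, 0], [0, 0, 0, 0, 0, 1, 0, 0], [0, 0, 0, 0, -1, -1, 0, 0], [0, 0, 0, 0, 1, 1, 1, 1]]),
  (5, mt [[-1, 0, -1, -1, -1, -1, -1, 0], [0, 1, 0, 1, 1, 1, 1, 0], [1, 0, 0, 0, 0, 0, 0, 0], [0, 0, 1, 0, 0, 0, 0, 0], [0, 0, 0, 1, 0, 0, 0, 0], [0, 0, 0, 0, 1, 1, 0, 0], [0, 0, 0, 0, 0, -1, 0, 0], [0, 0, 0, 0, 0, 1, 1, 1]]),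
  (6, mt [[-1, 0, -1, -1, -1, -1, -1, 0], [0, 1, 0, 1, 1, 1, 1, 0], [1, 0, 0, 0, 0, 0, 0, 0], [0, 0, 1, 0, 0, 0, 0, 0], [0, 0, 0, 1, 0, 0, 0, 0], [0, 0, 0, 0, 1, 0, 0, 0], [0, 0, 0, 0, 0, 1, 0, 0], [0, 0, 0, 0, 0, 0, 1, 1]]),
  (5, mt [[-1, 0, -1, -1, -1, -1, 0, 0], [0, 1, 0, 1, 1, 1, 0, 0], [1, 0, 0, 0, 0, 0, 0, 0], [0, 0, 1, 0, 0, 0, 0, 0], [0, 0, 0, 1, 0, 0, 0, 0], [0, 0, 0, 0, 1, 0, 0, 0], [0, 0, 0, 0, 0, 1, 1, 0], [0, 0, 0, 0, 0, 0, 0, 1]]),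
  (4, mt [[-1, 0, -1, -1, -1, 0, 0, 0], [0, 1, 0, 1, 1, 0, 0, 0], [1, 0, 0, 0, 0, 0, 0, 0], [0, 0, 1, 0, 0, 0, 0, 0], [0, 0, 0, 1, 0, 0, 0, 0], [0, 0, 0, 0, 1, 1, 0, 0], [0, 0, 0, 0, 0, 0, 1, 0], [0, 0, 0, 0, 0, 0, 0, 1]]),
  (3, mt [[-1, 0, -1, -1, 0, 0, 0, 0], [0, 1, 0, 1, 0, 0, 0, 0], [1, 0, 0, 0, 0, 0, 0, 0], [0, 0, 1, 0, 0, 0, 0, 0], [0, 0, 0, 1, 1, 0, 0, 0], [0, 0, 0, 0, 0, 1, 0, 0], [0, 0, 0, 0, 0, 0, 1, 0], [0, 0, 0, 0, 0, 0, 0, 1]]),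
  (2, mt [[-1, 0, -1, 0, 0, 0, 0, 0], [0, 1, 0, 0, 0, 0, 0, 0], [1, 0, 0, 0, 0, 0, 0, 0], [0, 0, 1, 1, 0, 0, 0, 0], [0, 0, 0, 0, 1, 0, 0, 0], [0, 0, 0, 0, 0, 1, 0, 0], [0, 0, 0, 0, 0, 0, 1, 0], [0, 0, 0, 0, 0, 0, 0, 1]]),
  (0, mt [[-1, 0, 0, 0, 0, 0, 0, 0], [0, 1, 0, 0, 0, 0, 0, 0], [1, 0, 1, 0, 0, 0, 0, 0], [0, 0, 0, 1, 0, 0, 0, 0], [0, 0, 0, 0, 1, 0, 0, 0], [0, 0, 0, 0, 0, 1, 0, 0], [0, 0, 0, 0, 0, 0, 1, 0], [0, 0, 0, 0, 0, 0, 0, 1]])]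

theorem cv_ok : ChainOK Am cv := by decide +kernel

theorem comm : CommOK (hd cv) (hd cw) := by decide +kernel

/-- the eigenvector `b`, fixed by `v` -/
def B : List Q4 := [(0, 0, 0, 0), (0, 0, 0, 0), (0, -1, 0, 0), (0, 1, 0, 0), (1, 0, 0, 0), (-1, -1, -1, 0), (0, 1, 1, 0), (0, 0, 0, -1)]

/-- the eigenvector `a` -/
def A : List Q4 := [(-1, 0, 0, 1), (-1, 2, 0, -1), (1, 0, 0, 0), (1, -1, -1, 1), (-1, 0, 1, -1), (0, 0, 0, 0), (0, 0, 1, 0), (0, 0, -1, 0)]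

theorem eb : EigQ (-1, 0, 1, 0) (hd cw) (0, 1, 0, 0) B := by decide +kernel

theorem ea : EigQ (-1, 0, 1, 0) (hd cw) (0, 1, 0, 0) A := by decide +kernel

theorem evb : EigQ (-1, 0, 1, 0) (hd cv) (1, 0, 0, 0) B := by decide +kernel

theorem eva : EigQ (-1, 0, 1, 0) (hd cv) (0, 0, 0, 1) A := by decide +kernel

theorem ib : ∃ i : Fin 8, B.getD i (0, 0, 0, 0) = (1, 0, 0, 0) := ⟨4, rfl⟩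

theorem ia : ∃ i : Fin 8, A.getD i (0, 0, 0, 0) = (1, 0, 0, 0) := ⟨2, rfl⟩

theorem ps12 : ps4 (-1, 0, 1, 0) [true, true, false, false] B R8 = (453600, 524160, 0, -262080) := by decide +kernel

theorem ct12 : mul4 (-1, 0, 1, 0) (-45, 52, 0, -26) (ps4 (-1, 0, 1, 0) [true, true, false, false] B R8) = (30240, 0, 0, 0) := by
  rw [ps12]
  decide +kernel

theorem ps24 : ps4 (-1, 0, 1, 0) [true, true, false, false, false] B R8 = (89887498848, 103793114880, 0, -51896557440) := by decide +kernel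

theorem ct24 : mul4 (-1, 0, 1, 0) (1351, -1560, 0, 780) (ps4 (-1, 0, 1, 0) [true, true, false, false, false] B R8) = (66534048, 0, 0, 0) := by
  rw [ps24]
  decide +kernel

/-- the reflection `v` -/
def cv' : List (Fin 8 × Mat 8) := [
  (3, mt [[1, 2, 2, 4, 3, 2, 1, 1], [0, 0, -1, -1, -1, 0, 0, 0], [0, -1, 0, -1, -1, 0, 0, 0], [0, 0, 0, 0, 0, -1, -1, -1], [0, 0, 0, 0, 0, 0, 1, 1], [0, 1, 1, 1, 1, 1, 0, 0], [0, -1, -1, -1, 0, 0, 0, 0], [0, 1, 1, 2, 1, 1, 1, 0]]),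
  (1, mt [[1, 2, 2, 3, 3, 2, 1, 1], [0, 0, -1, -1, -1, 0, 0, 0], [0, -1, 0, -1, -1, 0, 0, 0], [0, 0, 0, 0, 0, -1, -1, -1], [0, 0, 0, 0, 0, 0, 1, 1], [0, 1, 1, 2, 1, 1, 0, 0], [0, -1, -1, -1, 0, 0, 0, 0], [0, 1, 1, 1, 1, 1, 1, 0]]),
  (2, mt [[1, 1, 2, 3, 3, 2, 1, 1], [0, -1, -1, -1, -1, 0, 0, 0], [0, 0, 0, -1, -1, 0, 0, 0], [0, 0, 0, 0, 0, -1, -1, -1], [0, 0, 0, 0, 0, 0, 1, 1], [0, 1, 1, 2, 1, 1, 0, 0], [0, 0, -1, -1, 0, 0, 0, 0], [0, 0, 1, 1, 1, 1, 1, 0]]),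
  (3, mt [[1, 1, 2, 3, 3, 2, 1, 1], [0, -1, 0, -1, -1, 0, 0, 0], [0, 0, -1, -1, -1, 0, 0, 0], [0, 0, 0, 0, 0, -1, -1, -1], [0, 0, 0, 0, 0, 0, 1, 1], [0, 1, 1, 2, 1, 1, 0, 0], [0, 0, 0, -1, 0, 0, 0, 0], [0, 0, 0, 1, 1, 1, 1, 0]]),
  (4, mt [[1, 1, 2, 3, 3, 2, 1, 1], [0, -1, 0, -1, -1, 0, 0, 0], [0, 0, -1, -1, -1, 0, 0, 0], [0, 0, 0, 0, 0, -1, -1, -1], [0, 0, 0, 0, 0, 0, 1, 1], [0, 1, 1, 1, 1, 1, 0, 0], [0, 0, 0, 1, 0, 0, 0, 0], [0, 0, 0, 0, 1, 1, 1, 0]]),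
  (3, mt [[1, 1, 2, 3, 2, 2, 1, 1], [0, -1, 0, -1, 0, 0, 0, 0], [0, 0, -1, -1, 0, 0, 0, 0], [0, 0, 0, 0, -1, -1, -1, -1], [0, 0, 0, 0, 0, 0, 1, 1], [0, 1, 1, 1, 1, 1, 0, 0], [0, 0, 0, 1, 1, 0, 0, 0], [0, 0, 0, 0, 0, 1, 1, 0]]),
  (1, mt [[1, 1, 2, 2, 2, 2, 1, 1], [0, -1, 0, 0, 0, 0, 0, 0], [0, 0, -1, 0, 0, 0, 0, 0], [0, 0, 0, -1, -1, -1, -1, -1], [0, 0, 0, 0, 0, 0, 1, 1], [0, 1, 1, 2, 1, 1, 0, 0], [0, 0, 0, 0, 1, 0, 0, 0], [0, 0, 0, 0, 0, 1, 1, 0]]),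
  (2, mt [[1, 1, 2, 2, 2, 2, 1, 1], [0, 1, 0, 0, 0, 0, 0, 0], [0, 0, -1, 0, 0, 0, 0, 0], [0, -1, 0, -1, -1, -1, -1, -1], [0, 0, 0, 0, 0, 0, 1, 1], [0, 1, 1, 2, 1, 1, 0, 0], [0, 0, 0, 0, 1, 0, 0, 0], [0, 0, 0, 0, 0, 1, 1, 0]]),
  (5, mt [[1, 1, 1, 2, 2, 2, 1, 1], [0, 1, 0, 0, 0, 0, 0, 0], [0, 0, 1, 0, 0, 0, 0, 0], [0, -1, -1, -1, -1, -1, -1, -1], [0, 0, 0, 0, 0, 0, 1, 1], [0, 1, 1, 2, 1, 1, 0, 0], [0, 0, 0, 0, 1, 0, 0, 0], [0, 0, 0, 0, 0, 1, 1, 0]]),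
  (4, mt [[1, 1, 1, 2, 2, 1, 1, 1], [0, 1, 0, 0, 0, 0, 0, 0], [0, 0, 1, 0, 0, 0, 0, 0], [0, -1, -1, -1, -1, -1, -1, -1], [0, 0, 0, 0, 0, 1, 1, 1], [0, 1, 1, 2, 1, 0, 0, 0], [0, 0, 0, 0, 1, 1, 0, 0], [0, 0, 0, 0, 0, 0, 1, 0]]),
  (3, mt [[1, 1, 1, 2, 1, 1, 1, 1], [0, 1, 0, 0, 0, 0, 0, 0], [0, 0, 1, 0, 0, 0, 0, 0], [0, -1, -1, -1, -1, -1, -1, -1], [0, 0, 0, 0, 1, 1, 1, 1], [0, 1, 1, 2, 1, 0, 0, 0], [0, 0, 0, 0, 0, 1, 0, 0], [0, 0, 0, 0, 0, 0, 1, 0]]),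
  (1, mt [[1, 1, 1, 1, 1, 1, 1, 1], [0, 1, 0, 1, 0, 0, 0, 0], [0, 0, 1, 1, 0, 0, 0, 0], [0, -1, -1, -2, -1, -1, -1, -1], [0, 0, 0, 1, 1, 1, 1, 1], [0, 1, 1, 1, 1, 0, 0, 0], [0, 0, 0, 0, 0, 1, 0, 0], [0, 0, 0, 0, 0, 0, 1, 0]]),
  (2, mt [[1, 0, 1, 1, 1, 1, 1, 1], [0, 0, 0, 1, 0, 0, 0, 0], [0, 1, 1, 1, 0, 0, 0, 0], [0, -1, -1, -2, -1, -1, -1, -1], [0, 1, 0, 1, 1, 1, 1, 1], [0, 0, 1, 1, 1, 0, 0, 0], [0, 0, 0, 0, 0, 1, 0, 0], [0, 0, 0, 0, 0, 0, 1, 0]]),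
  (3, mt [[1, 0, 1, 1, 1, 1, 1, 1], [0, 0, 1, 1, 0, 0, 0, 0], [0, 1, 0, 1, 0, 0, 0, 0], [0, -1, -1, -2, -1, -1, -1, -1], [0, 1, 1, 1, 1, 1, 1, 1], [0, 0, 0, 1, 1, 0, 0, 0], [0, 0, 0, 0, 0, 1, 0, 0], [0, 0, 0, 0, 0, 0, 1, 0]]),
  (7, mt [[1, 0, 1, 1, 1, 1, 1, 1], [0, 0, 1, 0, 0, 0, 0, 0], [0, 1, 0, 0, 0, 0, 0, 0], [0, -1, -1, -1, -1, -1, -1, -1], [0, 1, 1, 2, 1, 1, 1, 1], [0, 0, 0, 0, 1, 0, 0, 0], [0, 0, 0, 0, 0, 1, 0, 0], [0, 0, 0, 0, 0, 0, 1, 0]]),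
  (6, mt [[1, 0, 1, 1, 1, 1, 1, 0], [0, 0, 1, 0, 0, 0, 0, 0], [0, 1, 0, 0, 0, 0, 0, 0], [0, -1, -1, -1, -1, -1, -1, 0], [0, 1, 1, 2, 1, 1, 1, 0], [0, 0, 0, 0, 1, 0, 0, 0], [0, 0, 0, 0, 0, 1, 0, 0], [0, 0, 0, 0, 0, 0, 1, 1]]),
  (5, mt [[1, 0, 1, 1, 1, 1, 0, 0], [0, 0, 1, 0, 0, 0, 0, 0], [0, 1, 0, 0, 0, 0, 0, 0], [0, -1, -1, -1, -1, -1, 0, 0], [0, 1, 1, 2, 1, 1, 0, 0], [0, 0, 0, 0, 1, 0, 0, 0], [0, 0, 0, 0, 0, 1, 1, 0], [0, 0, 0, 0, 0, 0, 0, 1]]),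
  (4, mt [[1, 0, 1, 1, 1, 0, 0, 0], [0, 0, 1, 0, 0, 0, 0, 0], [0, 1, 0, 0, 0, 0, 0, 0], [0, -1, -1, -1, -1, 0, 0, 0], [0, 1, 1, 2, 1, 0, 0, 0], [0, 0, 0, 0, 1, 1, 0, 0], [0, 0, 0, 0, 0, 0, 1, 0], [0, 0, 0, 0, 0, 0, 0, 1]]),
  (3, mt [[1, 0, 1, 1, 0, 0, 0, 0], [0, 0, 1, 0, 0, 0, 0, 0], [0, 1, 0, 0, 0, 0, 0, 0], [0, -1, -1, -1, 0, 0, 0, 0], [0, 1, 1, 2, 1, 0, 0, 0], [0, 0, 0, 0, 0, 1, 0, 0], [0, 0, 0, 0, 0, 0, 1, 0], [0, 0, 0, 0, 0, 0, 0, 1]]),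
  (1, mt [[1, 0, 1, 0, 0, 0, 0, 0], [0, 0, 1, 1, 0, 0, 0, 0], [0, 1, 0, 1, 0, 0, 0, 0], [0, -1, -1, -1, 0, 0, 0, 0], [0, 1, 1, 1, 1, 0, 0, 0], [0, 0, 0, 0, 0, 1, 0, 0], [0, 0, 0, 0, 0, 0, 1, 0], [0, 0, 0, 0, 0, 0, 0, 1]]),
  (2, mt [[1, 0, 1, 0, 0, 0, 0, 0], [0, 1, 1, 1, 0, 0, 0, 0], [0, 0, 0, 1, 0, 0, 0, 0], [0, 0, -1, -1, 0, 0, 0, 0], [0, 0, 1, 1, 1, 0, 0, 0], [0, 0, 0, 0, 0, 1, 0, 0], [0, 0, 0, 0, 0, 0, 1, 0], [0, 0, 0, 0, 0, 0, 0, 1]]),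
  (3, mt [[1, 0, 0, 0, 0, 0, 0, 0], [0, 1, 0, 1, 0, 0, 0, 0], [0, 0, 1, 1, 0, 0, 0, 0], [0, 0, 0, -1, 0, 0, 0, 0], [0, 0, 0, 1, 1, 0, 0, 0], [0, 0, 0, 0, 0, 1, 0, 0], [0, 0, 0, 0, 0, 0, 1, 0], [0, 0, 0, 0, 0, 0, 0, 1]])]

theorem cv'_ok : ChainOK Am cv' := by decide +kernel

theorem comm' : CommOK (hd cv') (hd cw) := by decide +kernel

/-- the eigenvector `b`, fixed by `v` -/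
def B' : List Q4 := [(1, 0, 0, 0), (1, -1, -1, 1), (-1, 0, 0, -1), (0, 0, 1, 0), (0, 1, 0, 0), (0, -1, -1, 0), (0, 1, 0, 0), (0, 0, 0, 0)]

/-- the eigenvector `a` -/
def A' : List Q4 := [(-1, -1, 1, 1), (1, 0, 0, 0), (1, 0, 0, 0), (-1, 1, 0, -1), (1, -1, -1, 1), (-1, 0, 0, 0), (0, 1, 1, 0), (0, -1, 0, -1)]

theorem eb' : EigQ (-1, 0, 1, 0) (hd cw) (0, 1, 0, 0) B' := by decide +kernel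

theorem ea' : EigQ (-1, 0, 1, 0) (hd cw) (0, 1, 0, 0) A' := by decide +kernel

theorem evb' : EigQ (-1, 0, 1, 0) (hd cv') (1, 0, 0, 0) B' := by decide +kernel

theorem eva' : EigQ (-1, 0, 1, 0) (hd cv') (-1, 0, 1, 0) A' := by decide +kernel

theorem ib' : ∃ i : Fin 8, B'.getD i (0, 0, 0, 0) = (1, 0, 0, 0) := ⟨0, rfl⟩

theorem ia' : ∃ i : Fin 8, A'.getD i (0, 0, 0, 0) = (1, 0, 0, 0) := ⟨1, rfl⟩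

theorem ps12' : ps4 (-1, 0, 1, 0) [true, true, false, false] B' R8 = (-45360, 0, 0, 0) := by decide +kernel

theorem ct12' : mul4 (-1, 0, 1, 0) (-1, 0, 0, 0) (ps4 (-1, 0, 1, 0) [true, true, false, false] B' R8) = (45360, 0, 0, 0) := by
  rw [ps12']
  decide +kernel

theorem ps24' : ps4 (-1, 0, 1, 0) [true, true, false, false, false] B' R8 = (134676864, 0, 0, 0) := by decide +kernel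

theorem ct24' : mul4 (-1, 0, 1, 0) (1, 0, 0, 0) (ps4 (-1, 0, 1, 0) [true, true, false, false, false] B' R8) = (134676864, 0, 0, 0) := by
  rw [ps24']
  decide +kernel

theorem ctx : mul4 (-1, 0, 1, 0) (1351, -1560, 0, 780) (add4 (mul4 (-1, 0, 1, 0) (89887498848, 103793114880, 0, -51896557440) (mul4 (-1, 0, 1, 0) (-45360, 0, 0, 0) (-45360, 0, 0, 0))) (sm4 (-1) (mul4 (-1, 0, 1, 0) (134676864, 0, 0, 0) (mul4 (-1, 0, 1, 0) (453600, 524160, 0, -262080) (453600, 524160, 0, -262080))))) =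
    (95843679224832000, 0, 0, 0) := by decide +kernel

end D12

end Cfsg.Agent.H682.KB
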