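import Cfsg.Agent.S1065

/-!
# The `p`-part of the order of `E₈(q)` (helper682, S4822)
-/

set_option autoImplicit false

open Cfsg Cfsg.Lie

namespace Cfsg.Agent.H682.KB

universe u

theorem val_factor {p q d i : ℕ} [Fact p.Prime] (hp : Odd p) (hq : 1 < q) (hd : orderOf (q : ZMod p) = d)
    (hi : i ≠ 0) (hip : i < p * d) :
    padicValNat p (q ^ i - 1) = if d ∣ i then padicValNat p (q ^ d - 1) else 0 := by
  have hpp : p.Prime := Fact.out
  have key : ∀ j, p ∣ q ^ j - 1 ↔ d ∣ j := by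
    intro j
    rw [← hd, orderOf_dvd_iff_pow_eq_one, ← CharP.cast_eq_zero_iff (ZMod p) p, Nat.cast_sub (Nat.one_le_pow _ _ (by omega)),
      sub_eq_zero]
    push_cast
    rfl
  have hd0 : d ≠ 0 := by
    rintro rfl
    omega
  split_ifs with h
  · obtain ⟨k, rfl⟩ := h
    have hk : k ≠ 0 := by
      rintro rfl
      exact hi (Nat.mul_zero _)
    have h1 : p ∣ q ^ d - 1 := (key d).2 dvd_rfl
    have h2 : ¬ p ∣ q ^ d := by
      intro h3
      have h4 : p ∣ 1 := by
        have h5 := (Nat.dvd_sub h3 h1)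
        rwa [Nat.sub_sub_self (Nat.one_le_pow _ _ (by omega))] at h5
      exact hpp.one_lt.ne' (Nat.dvd_one.1 h4)
    have h3 := padicValNat.pow_sub_pow (p := p) (x := q ^ d) (y := 1) hp (Nat.one_lt_pow hd0 hq) h1 h2 (n := k) hk
    have h4 : padicValNat p k = 0 := by
      apply padicValNat.eq_zero_of_not_dvd
      intro h5
      have h6 := Nat.le_of_dvd (Nat.pos_of_ne_zero hk) h5
      have h7 : p * d ≤ d * k := by
        rw [mul_comm]
        exact Nat.mul_le_mul_left _ h6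
      omega
    rw [one_pow, ← pow_mul, h4, add_zero] at h3
    exact h3
  · exact padicValNat.eq_zero_of_not_dvd fun h1 => h ((key i).1 h1)

/-- `n ≠ 0` has the `p`-adic valuation `k` -/
def HV (p n k : ℕ) : Prop := n ≠ 0 ∧ padicValNat p n = k

theorem HV.mul {p n k n' k' : ℕ} [Fact p.Prime] (h : HV p n k) (h' : HV p n' k') : HV p (n * n') (k + k') :=
  ⟨mul_ne_zero h.1 h'.1, by rw [padicValNat.mul h.1 h'.1, h.2, h'.2]⟩

/-- **The `p`-part of `|E₈(q)|`**, `ord_p(q) ∈ {5, 8, 10, 12}`. -/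
theorem card_E8_not_dvd {F : Type u} [Field F] [Fintype F] {p : ℕ} [Fact p.Prime] (h11 : 11 ≤ p)
    (hd : orderOf (Fintype.card F : ZMod p) = 5 ∨ orderOf (Fintype.card F : ZMod p) = 8 ∨
      orderOf (Fintype.card F : ZMod p) = 10 ∨ orderOf (Fintype.card F : ZMod p) = 12) {m : ℕ}
    (hm : padicValNat p (Fintype.card F ^ orderOf (Fintype.card F : ZMod p) - 1) = m) :
    ¬ p ^ (2 * m + 1) ∣ Nat.card ↥(chevE8.group F) := by
  have hpp : p.Prime := Fact.out
  have hq : 1 < Fintype.card F := Fintype.one_lt_card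
  have hodd : Odd p := hpp.odd_of_ne_two (by omega)
  rw [Cfsg.Agent.S1065.result (F := F) rfl]
  set q := Fintype.card F with hqdef
  have h0 : ∀ i, i ≠ 0 → q ^ i - 1 ≠ 0 := by
    intro i hi
    have := Nat.one_lt_pow hi hq
    omega
  have hq0 : HV p (q ^ 120) 0 := by
    refine ⟨pow_ne_zero _ (by omega), ?_⟩
    apply padicValNat.eq_zero_of_not_dvd
    intro h
    have h1 := hpp.dvd_of_dvd_pow h
    have h2 : (q : ZMod p) = 0 := (CharP.cast_eq_zero_iff (ZMod p) p q).2 h1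
    rw [h2] at hd
    have h3 : orderOf (0 : ZMod p) = 0 := orderOf_zero (ZMod p)
    rw [h3] at hd
    omega
  have hv : ∀ (i : ℕ) (d : ℕ), orderOf (q : ZMod p) = d → 5 ≤ d → i ≠ 0 → i ≤ 30 →
      HV p (q ^ i - 1) (if d ∣ i then padicValNat p (q ^ d - 1) else 0) :=
    fun i d hd hd5 hi hip => ⟨h0 i hi, val_factor hodd hq hd hi (by nlinarith)⟩
  have hall : ∀ d, orderOf (q : ZMod p) = d → 5 ≤ d → HV p (q ^ 120 * (q ^ 2 - 1) * (q ^ 8 - 1) * (q ^ 12 - 1) *
      (q ^ 14 - 1) * (q ^ 18 - 1) * (q ^ 20 - 1) * (q ^ 24 - 1) * (q ^ 30 - 1)) _ := fun d hd hd5 =>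
    (((((((hq0.mul (hv 2 d hd hd5 (by norm_num) (by norm_num))).mul (hv 8 d hd hd5 (by norm_num) (by norm_num))).mul
      (hv 12 d hd hd5 (by norm_num) (by norm_num))).mul (hv 14 d hd hd5 (by norm_num) (by norm_num))).mul
      (hv 18 d hd hd5 (by norm_num) (by norm_num))).mul (hv 20 d hd hd5 (by norm_num) (by norm_num))).mul
      (hv 24 d hd hd5 (by norm_num) (by norm_num))).mul (hv 30 d hd hd5 (by norm_num) (by norm_num))
  have hfin : HV p (q ^ 120 * (q ^ 2 - 1) * (q ^ 8 - 1) * (q ^ 12 - 1) * (q ^ 14 - 1) * (q ^ 18 - 1) *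
      (q ^ 20 - 1) * (q ^ 24 - 1) * (q ^ 30 - 1)) (2 * m) := by
    rcases hd with h | h | h | h <;> rw [h] at hm
    · have h1 := hall 5 h (by norm_num)
      rw [hm] at h1
      have h2 := h1.2
      norm_num at h2
      exact ⟨h1.1, by rw [h2]; ring⟩
    · have h1 := hall 8 h (by norm_num)
      rw [hm] at h1
      have h2 := h1.2
      norm_num at h2
      exact ⟨h1.1, by rw [h2]; ring⟩
    · have h1 := hall 10 h (by norm_num)
      rw [hm] at h1
      have h2 := h1.2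
      norm_num at h2
      exact ⟨h1.1, by rw [h2]; ring⟩
    · have h1 := hall 12 h (by norm_num)
      rw [hm] at h1
      have h2 := h1.2
      norm_num at h2
      exact ⟨h1.1, by rw [h2]; ring⟩
  rw [padicValNat_dvd_iff_le hfin.1, hfin.2]
  omega

end Cfsg.Agent.H682.KB
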