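import Cfsg.Agent.H682.KB.Rel
import Cfsg.Agent.H682.KB.Val
import Cfsg.Agent.H682.KB.Data

/-!
# `p + 3 ≤ 2 k(B₀)` for `E₈(q)`, `ord_p(q) ∈ {5, 8, 10, 12}` (helper682, S4822)
-/

set_option autoImplicit false
set_option linter.unusedSectionVars false

namespace Cfsg.Agent.H682.KB

open Cfsg Cfsg.Lie Subgroup
open Cfsg.Agent.Nodes.RGDChev Cfsg.Agent.H129.TorusChar Cfsg.Agent.H129.WData Cfsg.Agent.H210.EL
open Cfsg.Agent.H944.Tab Cfsg.Agent.H942.E8Tab
open Cfsg.Agent.H944.RootVals (ms)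
open Cfsg.Agent.H508.KB

universe u

variable {p : ℕ} [Fact p.Prime] {M : Ideal AlgInt} {F : Type} [Field F] [Fintype F] {S : Type u} [Group S] [Finite S]

theorem e8T' : IsType chevE8 8 CoxeterMatrix.E₈ := by simp [IsType, typeList]

theorem order_cast_pow {q d k : ℕ} (hd : orderOf (q : ZMod p) = d) (hk : k ≠ 0) :
    orderOf ((q ^ k : ℕ) : ZMod p) = d / Nat.gcd d k := by
  rw [Nat.cast_pow, orderOf_pow' _ hk, hd]

theorem cast_ne_zero {i : ℕ} (h : ¬ p ∣ i) : (i : ZMod p) ≠ 0 := fun h1 => h ((CharP.cast_eq_zero_iff (ZMod p) p i).1 h1)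

theorem dvd_sub_one {q d : ℕ} (hd : orderOf (q : ZMod p) = d) (h0 : d ≠ 0) : d ∣ p - 1 := by
  rw [← hd]
  apply ZMod.orderOf_dvd_card_sub_one
  intro h
  rw [h, orderOf_zero] at hd
  exact h0 hd.symm

/-- the exponent `m` -/
theorem exists_m (h11 : 11 ≤ p) {d : ℕ} (hd : orderOf (Fintype.card F : ZMod p) = d)
    (hd4 : d = 5 ∨ d = 8 ∨ d = 10 ∨ d = 12) :
    ∃ m, m ≠ 0 ∧ ¬ p ^ (2 * m + 1) ∣ Nat.card ↥(chevE8.group F) ∧ (Fintype.card F : ZMod (p ^ m)) ^ d = 1 := by
  have hpp : p.Prime := Fact.out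
  have hq : 1 < Fintype.card F := Fintype.one_lt_card
  have hd0 : d ≠ 0 := by omega
  have h0 : Fintype.card F ^ d - 1 ≠ 0 := by
    have := Nat.one_lt_pow hd0 hq
    omega
  have h1 : p ∣ Fintype.card F ^ d - 1 := by
    rw [← CharP.cast_eq_zero_iff (ZMod p) p, Nat.cast_sub (Nat.one_le_pow _ _ (by omega)), sub_eq_zero, Nat.cast_pow,
      Nat.cast_one, ← hd, pow_orderOf_eq_one]
  refine ⟨padicValNat p (Fintype.card F ^ d - 1), ?_, ?_, ?_⟩
  · have := one_le_padicValNat_of_dvd h0 h1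
    omega
  · refine card_E8_not_dvd h11 ?_ (by rw [hd])
    rw [hd]
    exact hd4
  · exact qd_eq_one (by omega) pow_padicValNat_dvd

theorem ten_of {a b : ZMod p} (ha : a ≠ 0) (hb : b ≠ 0) (h20 : ¬ p ∣ 2300100 → a ^ 20 = b ^ 20)
    (h30 : ¬ p ∣ 1144893750 → a ^ 30 = b ^ 30) (h50 : ¬ p ∣ 457212665937500 → a ^ 50 = b ^ 50) (h11 : 11 ≤ p)
    (h5 : 5 ∣ p - 1) : a ^ 10 = b ^ 10 := by
  have hfer : a ^ (p - 1) = b ^ (p - 1) := by
    rw [ZMod.pow_card_sub_one_eq_one ha, ZMod.pow_card_sub_one_eq_one hb]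
  by_cases c20 : p ∣ 2300100
  · have h1 : p ∈ [2, 2, 3, 5, 5, 11, 17, 41] := dvd_cases (by norm_num) (by norm_num; exact c20)
    have h2 : p = 11 ∨ p = 41 := by
      simp only [List.mem_cons, List.not_mem_nil, or_false] at h1
      omega
    rcases h2 with rfl | rfl
    · exact hfer
    · exact pow_gcd_eq (k := 30) (k' := 40) hb (h30 (by norm_num)) hfer
  · by_cases c30 : p ∣ 1144893750
    · have h1 : p ∈ [2, 3, 5, 5, 5, 5, 5, 7, 11, 13, 61] := dvd_cases (by norm_num) (by norm_num; exact c30)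
      have h2 : p = 11 ∨ p = 61 := by
        simp only [List.mem_cons, List.not_mem_nil, or_false] at h1
        omega
      rcases h2 with rfl | rfl
      · exact hfer
      · exact pow_gcd_eq (k := 20) (k' := 50) hb (h20 (by norm_num)) (h50 (by norm_num))
    · exact pow_gcd_eq (k := 20) (k' := 30) hb (h20 c20) (h30 c30)

theorem kB_D5 (hM : IsPModular p M) (h11 : 11 ≤ p) (hpF : (p : F) ≠ 0)
    (hd : orderOf (Fintype.card F : ZMod p) = 5) (f : ↥(chevE8.group F) ≃* S) : p + 3 ≤ 2 * kB M S := by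
  obtain ⟨m, hm, hS, hqd⟩ := exists_m h11 hd (by norm_num)
  have hq := rel5 hm hd hqd
  have hp2 : p ≠ 2 := by omega
  obtain ⟨x, hx, hfus⟩ := exists_prs (p := p) (m := m) e8T' hpF invC_E8 hA D5.cw_ok hq hqd (ι := Unit) (fun _ => D5.cv)
    (fun _ => D5.cv_ok) (fun _ => D5.comm) (fun _ => D5.B) (fun _ => D5.A) (fun _ => D5.eb) (fun _ => D5.ea)
    (fun _ => D5.evb) _ (fun _ => D5.eva) (fun _ => 1) (fun _ => 4) (fun _ => by rw [ev_x, pow_one]) (fun _ => by norm_num)
    (fun _ => D5.ib) (fun _ => D5.ia)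
  have ho : orderOf ((Fintype.card F ^ 4 : ℕ) : ZMod p) = 5 := order_cast_pow hd (by norm_num)
  refine kB_of_prs f hM hm (e := 10) (by norm_num) hS x (fun _ => Fintype.card F ^ 4) hx ?_ ⟨(), ?_⟩ ?_
  · intro t t' i j hi hj h
    have h1 := hfus t t' i j h
    refine ⟨rfl, ten_of (cast_ne_zero hi) (cast_ne_zero hj) ?_ ?_ ?_ h11 (dvd_sub_one hd (by norm_num))⟩
    · exact fun hn => pow_eq_mod hm hq hp2 tab8 len8 (by decide) h1 D5.ct20 hn
    · exact fun hn => pow_eq_mod hm hq hp2 tab8 len8 (by decide) h1 D5.ct30 hn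
    · exact fun hn => pow_eq_mod hm hq hp2 tab8 len8 (by decide) h1 D5.ct50 hn
  · intro h1
    rw [h1, orderOf_one] at ho
    omega
  · simp only [ho]
    decide

theorem ev_pow (K : List Bool) {R : Type*} [CommRing R] {q : R} {P : Q4} (hq : q ^ 4 = ev q P) :
    ev q (pwl P (0, 1, 0, 0) K (1, 0, 0, 0)) = q ^ bv K 0 := by
  rw [ev_pwl hq _ K (1, 0, 0, 0) 0 (by rw [pow_zero]; exact ev_one), ev_x]

theorem kB_D10 (hM : IsPModular p M) (h11 : 11 ≤ p) (hpF : (p : F) ≠ 0)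
    (hd : orderOf (Fintype.card F : ZMod p) = 10) (f : ↥(chevE8.group F) ≃* S) : p + 3 ≤ 2 * kB M S := by
  obtain ⟨m, hm, hS, hqd⟩ := exists_m h11 hd (by norm_num)
  have hq := rel10 hm hd hqd
  have hp2 : p ≠ 2 := by omega
  obtain ⟨x, hx, hfus⟩ := exists_prs (p := p) (m := m) e8T' hpF invC_E8 hA D10.cw_ok hq hqd (ι := Unit) (fun _ => D10.cv)
    (fun _ => D10.cv_ok) (fun _ => D10.comm) (fun _ => D10.B) (fun _ => D10.A) (fun _ => D10.eb) (fun _ => D10.ea)
    (fun _ => D10.evb) _ (fun _ => D10.eva) (fun _ => 8) (fun _ => 2)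
    (fun _ => by exact ev_pow [true, false, false, false] hq) (fun _ => by norm_num)
    (fun _ => D10.ib) (fun _ => D10.ia)
  have ho : orderOf ((Fintype.card F ^ 2 : ℕ) : ZMod p) = 5 := order_cast_pow hd (by norm_num)
  have h10 := dvd_sub_one hd (by norm_num)
  refine kB_of_prs f hM hm (e := 10) (by norm_num) hS x (fun _ => Fintype.card F ^ 2) hx ?_ ⟨(), ?_⟩ ?_
  · intro t t' i j hi hj h
    have h1 := hfus t t' i j h
    refine ⟨rfl, ten_of (cast_ne_zero hi) (cast_ne_zero hj) ?_ ?_ ?_ h11 (by omega)⟩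
    · exact fun hn => pow_eq_mod hm hq hp2 tab8 len8 (by decide) h1 D10.ct20 hn
    · exact fun hn => pow_eq_mod hm hq hp2 tab8 len8 (by decide) h1 D10.ct30 hn
    · exact fun hn => pow_eq_mod hm hq hp2 tab8 len8 (by decide) h1 D10.ct50 hn
  · intro h1
    rw [h1, orderOf_one] at ho
    omega
  · simp only [ho]
    decide

theorem kB_D8 (hM : IsPModular p M) (h11 : 11 ≤ p) (hpF : (p : F) ≠ 0)
    (hd : orderOf (Fintype.card F : ZMod p) = 8) (f : ↥(chevE8.group F) ≃* S) : p + 3 ≤ 2 * kB M S := by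
  obtain ⟨m, hm, hS, hqd⟩ := exists_m h11 hd (by norm_num)
  have hq := rel8 hm hd hqd
  have hp2 : p ≠ 2 := by omega
  obtain ⟨x, hx, hfus⟩ := exists_prs (p := p) (m := m) e8T' hpF invC_E8 hA D8.cw_ok hq hqd (ι := Unit) (fun _ => D8.cv)
    (fun _ => D8.cv_ok) (fun _ => D8.comm) (fun _ => D8.B) (fun _ => D8.A) (fun _ => D8.eb) (fun _ => D8.ea)
    (fun _ => D8.evb) _ (fun _ => D8.eva) (fun _ => 6) (fun _ => 2)
    (fun _ => by exact ev_pow [true, true, false] hq) (fun _ => by norm_num)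
    (fun _ => D8.ib) (fun _ => D8.ia)
  have ho : orderOf ((Fintype.card F ^ 2 : ℕ) : ZMod p) = 4 := order_cast_pow hd (by norm_num)
  refine kB_of_prs f hM hm (e := 8) (by norm_num) hS x (fun _ => Fintype.card F ^ 2) hx ?_ ⟨(), ?_⟩ ?_
  · intro t t' i j hi hj h
    have h1 := hfus t t' i j h
    refine ⟨rfl, pow_eq_mod hm hq hp2 tab8 len8 (by decide) h1 D8.ct8 ?_⟩
    intro hn
    have h2 : p ∈ [2, 2, 2, 2, 2, 2, 3, 3, 5] := dvd_cases (by norm_num) (by norm_num; exact hn)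
    simp only [List.mem_cons, List.not_mem_nil, or_false] at h2
    omega
  · intro h1
    rw [h1, orderOf_one] at ho
    omega
  · simp only [ho]
    decide

theorem cross {R : Type*} [CommRing R] {i j c c' d d' : R} (e1 : i ^ 12 * c = j ^ 12 * c')
    (e2 : i ^ 24 * d = j ^ 24 * d') :
    i ^ 24 * j ^ 24 * (d * (c' * c') + ((-1 : ℤ) : R) * (d' * (c * c))) = 0 := by
  push_cast
  linear_combination (j ^ 24 * c' ^ 2) * e2 - j ^ 24 * d' * (i ^ 12 * c + j ^ 12 * c') * e1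

theorem kB_D12 (hM : IsPModular p M) (h11 : 11 ≤ p) (hpF : (p : F) ≠ 0)
    (hd : orderOf (Fintype.card F : ZMod p) = 12) (f : ↥(chevE8.group F) ≃* S) : p + 3 ≤ 2 * kB M S := by
  obtain ⟨m, hm, hS, hqd⟩ := exists_m h11 hd (by norm_num)
  have hq := rel12 hm hd hqd
  have hp2 : p ≠ 2 := by omega
  obtain ⟨x, hx, hfus⟩ := exists_prs (p := p) (m := m) e8T' hpF invC_E8 hA D12.cw_ok hq hqd (ι := Bool)
    (fun t => cond t D12.cv D12.cv') (by rintro (_ | _); exacts [D12.cv'_ok, D12.cv_ok])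
    (by rintro (_ | _); exacts [D12.comm', D12.comm]) (fun t => cond t D12.B D12.B') (fun t => cond t D12.A D12.A')
    (by rintro (_ | _); exacts [D12.eb', D12.eb]) (by rintro (_ | _); exacts [D12.ea', D12.ea])
    (by rintro (_ | _); exacts [D12.evb', D12.evb]) (fun t => cond t (0, 0, 0, 1) (-1, 0, 1, 0))
    (by rintro (_ | _); exacts [D12.eva', D12.eva]) (fun t => cond t 3 4) (fun t => cond t 9 8)
    (by
      rintro (_ | _)
      · exact ev_pow [true, false, false] hq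
      · exact ev_pow [true, true] hq) (by rintro (_ | _) <;> norm_num)
    (by rintro (_ | _); exacts [D12.ib', D12.ib]) (by rintro (_ | _); exacts [D12.ia', D12.ia])
  have ho : orderOf ((Fintype.card F ^ 9 : ℕ) : ZMod p) = 4 := order_cast_pow hd (by norm_num)
  have ho' : orderOf ((Fintype.card F ^ 8 : ℕ) : ZMod p) = 3 := order_cast_pow hd (by norm_num)
  have h12 := dvd_sub_one hd (by norm_num)
  have hpn : ∀ {L : List ℕ}, (∀ x ∈ L, x.Prime) → (∀ x ∈ L, ¬ 12 ∣ x - 1) → ¬ p ∣ L.prod := by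
    intro L hL hL' hn
    exact hL' p (dvd_cases hL hn) h12
  refine kB_of_prs f hM hm (e := 12) (by norm_num) hS x (fun t => Fintype.card F ^ (cond t 9 8)) hx ?_ ⟨true, ?_⟩ ?_
  · intro t t' i j hi hj h
    have h1 := hfus t t' i j h
    have hne : ∀ i j : ℕ, ¬ p ∣ i → ¬ p ∣ j → ms chevE8 8 (fun n : Fin 8 => (i : ZMod (p ^ m)) *
          vv (Fintype.card F : ZMod (p ^ m)) D12.B n) =
        ms chevE8 8 (fun n : Fin 8 => (j : ZMod (p ^ m)) * vv (Fintype.card F : ZMod (p ^ m)) D12.B' n) → False := by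
      intro i j hi hj h
      have e1 := pow_eq_of_ms hq hp2 tab8 len8 (K := [true, true, false, false]) (by decide) h
      have e2 := pow_eq_of_ms hq hp2 tab8 len8 (K := [true, true, false, false, false]) (by decide) h
      rw [D12.ps12, D12.ps12', show bv [true, true, false, false] 0 = 12 from rfl] at e1
      rw [D12.ps24, D12.ps24', show bv [true, true, false, false, false] 0 = 24 from rfl] at e2
      have hu := isUnit_ev hm hq D12.ctx (by
        rw [Int.natCast_dvd]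
        exact hpn (L := [2, 2, 2, 2, 2, 2, 2, 2, 2, 2, 2, 2, 2, 3, 3, 3, 3, 3, 3, 3, 3, 5, 5, 5, 7, 7, 7, 11, 19, 199])
          (by norm_num) (by decide))
      rw [ev_add, ev_sm, ev_mul hq, ev_mul hq, ev_mul hq, ev_mul hq] at hu
      have hui : IsUnit (i : ZMod (p ^ m)) := by
        have h2 := isUnit_int (p := p) hm (n := (i : ℤ)) (by rwa [Int.natCast_dvd_natCast])
        simpa using h2
      have huj : IsUnit (j : ZMod (p ^ m)) := by
        have h2 := isUnit_int (p := p) hm (n := (j : ℤ)) (by rwa [Int.natCast_dvd_natCast])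
        simpa using h2
      have hall := ((hui.pow 24).mul (huj.pow 24)).mul hu
      have : Nontrivial (ZMod (p ^ m)) := by
        have : Fact (1 < p ^ m) := ⟨Nat.one_lt_pow hm (Fact.out : p.Prime).one_lt⟩
        infer_instance
      exact hall.ne_zero (cross e1 e2)
    by_cases htt : t = t'
    · subst htt
      refine ⟨rfl, ?_⟩
      cases t
      · exact pow_eq_mod hm hq hp2 tab8 len8 (by decide) h1 D12.ct12'
          (hpn (L := [2, 2, 2, 2, 3, 3, 3, 3, 5, 7]) (by norm_num) (by decide))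
      · exact pow_eq_mod hm hq hp2 tab8 len8 (by decide) h1 D12.ct12
          (hpn (L := [2, 2, 2, 2, 2, 3, 3, 3, 5, 7]) (by norm_num) (by decide))
    · exfalso
      cases t <;> cases t'
      · exact htt rfl
      · exact hne j i hj hi h1.symm
      · exact hne i j hi hj h1
      · exact htt rfl
  · intro h1
    rw [show cond true 9 8 = 9 from rfl] at h1
    rw [h1, orderOf_one] at ho
    omega
  · rw [Fintype.sum_bool]
    show 12 ≤ 2 * (orderOf ((Fintype.card F ^ 9 : ℕ) : ZMod p) + orderOf ((Fintype.card F ^ 8 : ℕ) : ZMod p))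
    rw [ho, ho']
    norm_num

end Cfsg.Agent.H682.KB
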