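import Cfsg.Agent.H682.KB.Tor

/-!
# Relations modulo `p ^ m`, fusion from power sums, assembly (helper682, S4822)
-/

set_option autoImplicit false
set_option linter.unusedSectionVars false

namespace Cfsg.Agent.H682.KB

open Cfsg Cfsg.Lie Subgroup
open Cfsg.Agent.H944.Tab
open Cfsg.Agent.H944.RootVals (ms)
open Cfsg.Agent.H508.KB

universe u v

variable {p : ℕ} [Fact p.Prime]

/-! ### `q⁴ = P(q)` -/

section rel

variable {m q : ℕ} (hm : m ≠ 0)

theorem qd_eq_one {d : ℕ} (hq : 0 < q) (h : p ^ m ∣ q ^ d - 1) : (q : ZMod (p ^ m)) ^ d = 1 := by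
  have h1 := (ZMod.natCast_eq_zero_iff _ _).2 h
  rw [Nat.cast_sub (Nat.one_le_pow _ _ hq), sub_eq_zero] at h1
  exact_mod_cast h1

include hm in
theorem eq_zero_of_mul {z w : ZMod (p ^ m)} (hz : ZMod.castHom (dvd_pow_self p hm) (ZMod p) z ≠ 0) (h : z * w = 0) :
    w = 0 := by
  obtain ⟨u, rfl⟩ := isUnit_of_cast hm hz
  exact (Units.mul_right_eq_zero u).1 h

theorem pow_ne_one {d : ℕ} {x : ZMod p} (hd : orderOf x = d) {k : ℕ} (hk : ¬ d ∣ k) : x ^ k ≠ 1 := by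
  intro h
  rw [← hd] at hk
  exact hk (orderOf_dvd_of_pow_eq_one h)

include hm in
theorem rel5 (hd : orderOf (q : ZMod p) = 5) (h : (q : ZMod (p ^ m)) ^ 5 = 1) :
    (q : ZMod (p ^ m)) ^ 4 = ev (q : ZMod (p ^ m)) (-1, -1, -1, -1) := by
  have h1 := pow_ne_one hd (k := 1) (by norm_num)
  have h2 := eq_zero_of_mul hm (z := (q : ZMod (p ^ m)) - 1)
    (w := (q : ZMod (p ^ m)) ^ 4 - ev (q : ZMod (p ^ m)) (-1, -1, -1, -1)) (by
      rw [map_sub, map_natCast, map_one, sub_ne_zero]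
      rwa [pow_one] at h1) (by
      unfold ev
      push_cast
      linear_combination h)
  exact sub_eq_zero.1 h2

include hm in
theorem rel8 (hd : orderOf (q : ZMod p) = 8) (h : (q : ZMod (p ^ m)) ^ 8 = 1) :
    (q : ZMod (p ^ m)) ^ 4 = ev (q : ZMod (p ^ m)) (-1, 0, 0, 0) := by
  have h1 := pow_ne_one hd (k := 4) (by norm_num)
  have h2 := eq_zero_of_mul hm (z := (q : ZMod (p ^ m)) ^ 4 - 1)
    (w := (q : ZMod (p ^ m)) ^ 4 - ev (q : ZMod (p ^ m)) (-1, 0, 0, 0)) (by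
      rw [map_sub, map_pow, map_natCast, map_one, sub_ne_zero]
      exact h1) (by
      unfold ev
      push_cast
      linear_combination h)
  exact sub_eq_zero.1 h2

include hm in
theorem rel10 (hd : orderOf (q : ZMod p) = 10) (h : (q : ZMod (p ^ m)) ^ 10 = 1) :
    (q : ZMod (p ^ m)) ^ 4 = ev (q : ZMod (p ^ m)) (-1, 1, -1, 1) := by
  have h1 := pow_ne_one hd (k := 5) (by norm_num)
  have h2 := pow_ne_one hd (k := 2) (by norm_num)
  have h3 := eq_zero_of_mul hm (z := ((q : ZMod (p ^ m)) ^ 5 - 1) * ((q : ZMod (p ^ m)) + 1))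
    (w := (q : ZMod (p ^ m)) ^ 4 - ev (q : ZMod (p ^ m)) (-1, 1, -1, 1)) (by
      rw [map_mul, map_sub, map_add, map_pow, map_natCast, map_one]
      refine mul_ne_zero (sub_ne_zero.2 h1) fun h4 => h2 ?_
      rw [eq_neg_of_add_eq_zero_left h4]
      ring) (by
      unfold ev
      push_cast
      linear_combination h)
  exact sub_eq_zero.1 h3

include hm in
theorem rel12 (hd : orderOf (q : ZMod p) = 12) (h : (q : ZMod (p ^ m)) ^ 12 = 1) :
    (q : ZMod (p ^ m)) ^ 4 = ev (q : ZMod (p ^ m)) (-1, 0, 1, 0) := by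
  have h1 := pow_ne_one hd (k := 6) (by norm_num)
  have h2 := pow_ne_one hd (k := 4) (by norm_num)
  have h3 := eq_zero_of_mul hm (z := ((q : ZMod (p ^ m)) ^ 6 - 1) * ((q : ZMod (p ^ m)) ^ 2 + 1))
    (w := (q : ZMod (p ^ m)) ^ 4 - ev (q : ZMod (p ^ m)) (-1, 0, 1, 0)) (by
      rw [map_mul, map_sub, map_add, map_pow, map_pow, map_natCast, map_one]
      refine mul_ne_zero (sub_ne_zero.2 h1) fun h4 => h2 ?_
      have h5 := eq_neg_of_add_eq_zero_left h4
      calc (q : ZMod p) ^ 4 = ((q : ZMod p) ^ 2) ^ 2 := by ring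
        _ = 1 := by rw [h5]; ring) (by
      unfold ev
      push_cast
      linear_combination h)
  exact sub_eq_zero.1 h3

end rel

/-! ### fusion -/

section fus

variable {D : ChevalleyDatum} {l m : ℕ} (hm : m ≠ 0)

include hm in
theorem pow_eq_mod {q : ZMod (p ^ m)} {P : Q4} (hq : q ^ 4 = ev q P) (hp2 : p ≠ 2) {L : List (List ℕ)}
    (hL : chkTab D l L = true) (hl : ∀ r ∈ L, r.length ≤ l) {K : List Bool} (hK : Even (bv K 0)) {B : List Q4}
    {i j : ℕ} (h : ms D l (fun n : Fin l => (i : ZMod (p ^ m)) * vv q B n) =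
      ms D l (fun n : Fin l => (j : ZMod (p ^ m)) * vv q B n)) {u : Q4} {n : ℤ}
    (hu : mul4 P u (ps4 P K B L) = (n, 0, 0, 0)) (hn : ¬ p ∣ n.natAbs) :
    (i : ZMod p) ^ bv K 0 = (j : ZMod p) ^ bv K 0 := by
  have h1 := pow_eq_of_ms hq hp2 hL hl hK h
  obtain ⟨w, hw⟩ := isUnit_ev hm hq hu (by rwa [Int.natCast_dvd])
  rw [← hw] at h1
  have h2 := congrArg (ZMod.castHom (dvd_pow_self p hm) (ZMod p)) ((Units.mul_left_inj w).1 h1)
  simpa only [map_pow, map_natCast] using h2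

theorem pow_gcd_eq {a b : ZMod p} (hb : b ≠ 0) {k k' : ℕ} (h1 : a ^ k = b ^ k) (h2 : a ^ k' = b ^ k') :
    a ^ k.gcd k' = b ^ k.gcd k' := by
  have key : ∀ n, (a / b) ^ n = 1 ↔ a ^ n = b ^ n := by
    intro n
    rw [div_pow, div_eq_one_iff_eq (pow_ne_zero _ hb)]
  rw [← key, ← orderOf_dvd_iff_pow_eq_one]
  exact Nat.dvd_gcd (orderOf_dvd_of_pow_eq_one ((key k).2 h1)) (orderOf_dvd_of_pow_eq_one ((key k').2 h2))

theorem dvd_cases {L : List ℕ} (hL : ∀ x ∈ L, x.Prime) (h : p ∣ L.prod) : p ∈ L := by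
  have hp : p.Prime := Fact.out
  obtain ⟨x, hx, hd⟩ := (Prime.dvd_prod_iff (Nat.prime_iff.1 hp)).1 h
  rwa [(Nat.prime_dvd_prime_iff_eq hp (hL x hx)).1 hd]

end fus

/-! ### assembly -/

section asm

variable {M : Ideal AlgInt}

theorem two_le_one {S : Type u} [Group S] [Finite S] (hM : IsPModular p M) {m : ℕ} (hm : m ≠ 0) {x y c : S} {n : ℕ}
    (h : Pr p m x y c n) (hn : (n : ZMod p) ≠ 1) :
    2 ≤ blockRank p (principalBlock M ↥(centralizer ({(1 : S)} : Set S))) := by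
  have h1 : ∀ g : S, g ∈ centralizer ({(1 : S)} : Set S) := fun g =>
    mem_centralizer_singleton_iff.2 (by rw [mul_one, one_mul])
  refine two_le_of_conj (y := ⟨y, h1 y⟩) (c := ⟨c, h1 c⟩) (n := n) hM hm ?_ (Subtype.ext h.cy) hn
  rw [Subgroup.orderOf_mk, h.oy]

/-- **The assembly.** -/
theorem kB_of_prs {G : Type v} [Group G] {S : Type u} [Group S] [Finite S] (f : G ≃* S) (hM : IsPModular p M)
    {m e : ℕ} (hm : m ≠ 0) (he : e ≠ 0) (hS : ¬ p ^ (2 * m + 1) ∣ Nat.card G) {ι : Type} [Fintype ι] (x : ι → G)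
    (n : ι → ℕ) (hx : ∀ t, ∃ y c, Pr p m (x t) y c (n t))
    (fus : ∀ a b (i j : ℕ), ¬ p ∣ i → ¬ p ∣ j → IsConj (x a ^ i) (x b ^ j) → a = b ∧ (i : ZMod p) ^ e = (j : ZMod p) ^ e)
    (hn : ∃ t, (n t : ZMod p) ≠ 1) (hL : e ≤ 2 * ∑ t, orderOf (n t : ZMod p)) : p + 3 ≤ 2 * kB M S := by
  have hG : Finite G := Finite.of_equiv S f.symm.toEquiv
  have hS' : ¬ p ^ (2 * m + 1) ∣ Nat.card S := by rwa [← Nat.card_congr f.toEquiv]
  choose y c hpr using hx
  have hpr' : ∀ t, Pr p m (f (x t)) (f (y t)) (f (c t)) (n t) := fun t => (hpr t).map f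
  refine count hM hm he (fun t => f (x t)) (fun t => (hpr' t).ox) (fun a b i j hi hj h => fus a b i j hi hj ?_)
    (fun t => orderOf (n t : ZMod p)) (fun t i hi => rank_pair hM hm hS' ((hpr' t).pow hi)) ?_ hL
  · have h1 := f.symm.toMonoidHom.map_isConj h
    simpa using h1
  · obtain ⟨t, ht⟩ := hn
    exact two_le_one hM hm (hpr' t) ht

end asm

end Cfsg.Agent.H682.KB
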