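import Cfsg.Agent.H682.KB.KMain

/-!
# S4822, KE6: `p + 3 ≤ 2 k(B₀)` for `E₈(q)`, `ord_p(q) ∈ {5, 8, 10, 12}` (helper682)
-/

set_option autoImplicit false

namespace Cfsg.Agent.H682.KB

open Cfsg Cfsg.Lie
open Cfsg.Agent.H508.KB

universe u

/-- **`p + 3 ≤ 2 k(B₀)` for `E₈(q)`, `ord_p(q) ∈ {5, 8, 10, 12}`.** -/
theorem kB_E8b {p : ℕ} [Fact p.Prime] {M : Ideal AlgInt} (hM : IsPModular p M) (h11 : 11 ≤ p) {F : Type} [Field F]
    [Fintype F] (hpF : (p : F) ≠ 0) {S : Type u} [Group S] [Finite S] (e : Nonempty (S ≃* chevE8.group F))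
    (hd : orderOf (Fintype.card F : ZMod p) = 5 ∨ orderOf (Fintype.card F : ZMod p) = 8 ∨
      orderOf (Fintype.card F : ZMod p) = 10 ∨ orderOf (Fintype.card F : ZMod p) = 12) :
    p + 3 ≤ 2 * kB M S := by
  obtain ⟨f⟩ := e
  rcases hd with h | h | h | h
  · exact kB_D5 hM h11 hpF h f.symm
  · exact kB_D8 hM h11 hpF h f.symm
  · exact kB_D10 hM h11 hpF h f.symm
  · exact kB_D12 hM h11 hpF h f.symm

/-- the same, `r ≠ p` -/
theorem kB_E8b' {p : ℕ} [Fact p.Prime] {M : Ideal AlgInt} (hM : IsPModular p M) (h11 : 11 ≤ p) {F : Type} [Field F]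
    [Fintype F] {r : ℕ} [Fact r.Prime] [CharP F r] (hrp : r ≠ p) {S : Type u} [Group S] [Finite S]
    (e : Nonempty (S ≃* chevE8.group F))
    (hd : orderOf (Fintype.card F : ZMod p) = 5 ∨ orderOf (Fintype.card F : ZMod p) = 8 ∨
      orderOf (Fintype.card F : ZMod p) = 10 ∨ orderOf (Fintype.card F : ZMod p) = 12) :
    p + 3 ≤ 2 * kB M S := by
  refine kB_E8b hM h11 (fun h => hrp ?_) e hd
  have h1 := (CharP.cast_eq_zero_iff F r p).1 h
  exact (Nat.prime_dvd_prime_iff_eq (Fact.out : r.Prime) (Fact.out : p.Prime)).1 h1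

end Cfsg.Agent.H682.KB
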