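import Cfsg.Agent.H210.EL.Gen
import Cfsg.Agent.H944.Tab

/-!
# Arithmetic in `ℤ[x] / (x⁴ - P)` for computations with root values (helper682, S4822)

`P` of degree `≤ 3`, elements as quadruples of integers, `ev q` : the value at `q` (a homomorphism if `q⁴ = P(q)`).
-/

set_option autoImplicit false

namespace Cfsg.Agent.H682.KB

open Cfsg.Agent.H129.WData Cfsg.Agent.H210.EL Cfsg.Agent.H944.Tab
open Cfsg.Agent.H944.RootVals (ms)
open Cfsg.Lie

/-- quadruples -/
abbrev Q4 := ℤ × ℤ × ℤ × ℤ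

def add4 (u v : Q4) : Q4 := (u.1 + v.1, u.2.1 + v.2.1, u.2.2.1 + v.2.2.1, u.2.2.2 + v.2.2.2)

def sm4 (n : ℤ) (u : Q4) : Q4 := (n * u.1, n * u.2.1, n * u.2.2.1, n * u.2.2.2)

/-- multiplication by `x` -/
def mx (P u : Q4) : Q4 :=
  (u.2.2.2 * P.1, u.1 + u.2.2.2 * P.2.1, u.2.1 + u.2.2.2 * P.2.2.1, u.2.2.1 + u.2.2.2 * P.2.2.2)

def mul4 (P u v : Q4) : Q4 :=
  add4 (sm4 u.1 v) (add4 (sm4 u.2.1 (mx P v)) (add4 (sm4 u.2.2.1 (mx P (mx P v))) (sm4 u.2.2.2 (mx P (mx P (mx P v))))))

/-- square and multiply -/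
def pwl (P u : Q4) : List Bool → Q4 → Q4
  | [], a => a
  | false :: L, a => pwl P u L (mul4 P a a)
  | true :: L, a => pwl P u L (mul4 P u (mul4 P a a))

/-- the exponent -/
def bv : List Bool → ℕ → ℕ
  | [], n => n
  | false :: L, n => bv L (2 * n)
  | true :: L, n => bv L (2 * n + 1)

def dot4 : List ℕ → List Q4 → Q4
  | a :: as, b :: bs => add4 (sm4 a b) (dot4 as bs)
  | _, _ => (0, 0, 0, 0)

/-- the power sum over a list of roots -/
def ps4 (P : Q4) (K : List Bool) (B : List Q4) : List (List ℕ) → Q4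
  | [] => (0, 0, 0, 0)
  | r :: R => add4 (pwl P (dot4 r B) K (1, 0, 0, 0)) (ps4 P K B R)

section

variable {R : Type*} [CommRing R] (q : R)

/-- the value at `q` -/
def ev (u : Q4) : R := (u.1 : R) + (u.2.1 : R) * q + (u.2.2.1 : R) * q ^ 2 + (u.2.2.2 : R) * q ^ 3

theorem ev_add (u v : Q4) : ev q (add4 u v) = ev q u + ev q v := by
  unfold ev add4
  push_cast
  ring

theorem ev_sm (n : ℤ) (u : Q4) : ev q (sm4 n u) = n * ev q u := by
  unfold ev sm4
  push_cast
  ring

variable {q}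

theorem ev_mx {P : Q4} (hq : q ^ 4 = ev q P) (u : Q4) : ev q (mx P u) = q * ev q u := by
  have h : q * ev q u = (u.1 : R) * q + (u.2.1 : R) * q ^ 2 + (u.2.2.1 : R) * q ^ 3 + (u.2.2.2 : R) * q ^ 4 := by
    unfold ev
    ring
  rw [h, hq]
  unfold ev mx
  push_cast
  ring

theorem ev_mul {P : Q4} (hq : q ^ 4 = ev q P) (u v : Q4) : ev q (mul4 P u v) = ev q u * ev q v := by
  unfold mul4
  simp only [ev_add, ev_sm, ev_mx hq]
  rw [show ev q u * ev q v = ((u.1 : R) + (u.2.1 : R) * q + (u.2.2.1 : R) * q ^ 2 + (u.2.2.2 : R) * q ^ 3) * ev q v from rfl]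
  ring

theorem ev_pwl {P : Q4} (hq : q ^ 4 = ev q P) (u : Q4) (K : List Bool) : ∀ (a : Q4) (n : ℕ), ev q a = ev q u ^ n →
    ev q (pwl P u K a) = ev q u ^ bv K n := by
  induction K with
  | nil => exact fun a n h => h
  | cons b K ih =>
    intro a n h
    cases b
    · refine ih _ _ ?_
      rw [ev_mul hq, h]
      ring
    · refine ih _ _ ?_
      rw [ev_mul hq, ev_mul hq, h]
      ring

theorem ev_one : ev q (1, 0, 0, 0) = 1 := by
  unfold ev
  push_cast
  ring

theorem ev_zero : ev q (0, 0, 0, 0) = 0 := by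
  unfold ev
  push_cast
  ring

theorem ev_int (n : ℤ) : ev q (n, 0, 0, 0) = n := by
  unfold ev
  push_cast
  ring

/-- the vector with entries `B i (q)` -/
def vv (q : R) {l : ℕ} (B : List Q4) : Fin l → R := fun i => ev q (B.getD i (0, 0, 0, 0))

theorem ev_dot (l : ℕ) : ∀ (r : List ℕ) (B : List Q4), r.length ≤ l → ev q (dot4 r B) = dotF r (vv q B : Fin l → R) := by
  unfold dotF vv
  induction l with
  | zero =>
    intro r B hr
    have : r = [] := List.length_eq_zero_iff.1 (by omega)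
    subst this
    rw [Finset.univ_eq_empty, Finset.sum_empty]
    exact ev_zero
  | succ n ih =>
    intro r B hr
    rw [Fin.sum_univ_succ]
    cases r with
    | nil =>
      simp only [List.getD_nil, Nat.cast_zero, zero_mul, Finset.sum_const_zero, add_zero]
      exact ev_zero
    | cons a as =>
      cases B with
      | nil =>
        simp only [List.getD_nil, ev_zero, mul_zero, Finset.sum_const_zero, add_zero]
        exact ev_zero
      | cons b bs =>
        rw [dot4, ev_add, ev_sm, ih as bs (by simpa using hr)]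
        simp

variable {D : ChevalleyDatum} {l : ℕ}

theorem ev_ps {P : Q4} (hq : q ^ 4 = ev q P) (K : List Bool) (B : List Q4) (L : List (List ℕ))
    (hL : ∀ r ∈ L, r.length ≤ l) :
    ev q (ps4 P K B L) = (L.map fun r => dotF r (vv q B : Fin l → R) ^ bv K 0).sum := by
  induction L with
  | nil => exact ev_zero
  | cons r L ih =>
    rw [ps4, ev_add, List.map_cons, List.sum_cons, ih fun s hs => hL s (List.mem_cons_of_mem _ hs),
      ev_pwl hq _ K (1, 0, 0, 0) 0 (by rw [pow_zero]; exact ev_one), ev_dot l r B (hL r List.mem_cons_self)]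

/-- **Power sums over the root values.** -/
theorem psum_eq {P : Q4} (hq : q ^ 4 = ev q P) {L : List (List ℕ)} (hL : chkTab D l L = true)
    (hl : ∀ r ∈ L, r.length ≤ l) (K : List Bool) (B : List Q4) (hK : Even (bv K 0)) :
    ((ms D l (vv q B : Fin l → R)).map fun x => x ^ bv K 0).sum = 2 * ev q (ps4 P K B L) := by
  rw [sum_ms hL, ev_ps hq K B L hl]
  simp only [hK.neg_pow]
  rw [← List.sum_map_mul_left]
  congr 1
  refine List.map_congr_left fun r _ => ?_
  ring

theorem psum_smul (a : R) (v : Fin l → R) (k : ℕ) :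
    ((ms D l (fun i => a * v i)).map fun x => x ^ k).sum = a ^ k * ((ms D l v).map fun x => x ^ k).sum := by
  unfold ms
  rw [Multiset.map_map, Multiset.map_map, ← Multiset.sum_map_mul_left]
  congr 1
  refine Multiset.map_congr rfl fun s _ => ?_
  simp only [Function.comp_apply]
  rw [← mul_pow, Finset.mul_sum]
  congr 1
  exact Finset.sum_congr rfl fun i _ => by ring

/-- the eigenvector check -/
def EigQ (P : Q4) (W : Mat l) (s : Q4) (B : List Q4) : Prop := ∀ j : Fin l,
  (∑ n : Fin l, W j n * (B.getD n (0, 0, 0, 0)).1 = (mul4 P s (B.getD j (0, 0, 0, 0))).1) ∧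
  (∑ n : Fin l, W j n * (B.getD n (0, 0, 0, 0)).2.1 = (mul4 P s (B.getD j (0, 0, 0, 0))).2.1) ∧
  (∑ n : Fin l, W j n * (B.getD n (0, 0, 0, 0)).2.2.1 = (mul4 P s (B.getD j (0, 0, 0, 0))).2.2.1) ∧
  (∑ n : Fin l, W j n * (B.getD n (0, 0, 0, 0)).2.2.2 = (mul4 P s (B.getD j (0, 0, 0, 0))).2.2.2)

instance (P : Q4) (W : Mat l) (s : Q4) (B : List Q4) : Decidable (EigQ P W s B) := by
  unfold EigQ; infer_instance

theorem EigQ.eigOK {N : ℕ} {q : ZMod N} {P : Q4} (hq : q ^ 4 = ev q P) {W : Mat l} {s : Q4} {B : List Q4}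
    (h : EigQ P W s B) : EigOK W (ev q s) (vv q B : Fin l → ZMod N) := by
  intro j
  obtain ⟨h1, h2, h3, h4⟩ := h j
  show ∑ n : Fin l, (W j n : ZMod N) * ev q (B.getD n (0, 0, 0, 0)) = ev q s * ev q (B.getD j (0, 0, 0, 0))
  rw [← ev_mul hq]
  conv_rhs => rw [ev]
  rw [← h1, ← h2, ← h3, ← h4]
  push_cast
  rw [Finset.sum_mul, Finset.sum_mul, Finset.sum_mul, ← Finset.sum_add_distrib, ← Finset.sum_add_distrib,
    ← Finset.sum_add_distrib]
  refine Finset.sum_congr rfl fun n _ => ?_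
  unfold ev
  ring

end

end Cfsg.Agent.H682.KB
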