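import Cfsg.Agent.H682.KB.Pair
import Cfsg.Agent.H682.KB.Q4
import Cfsg.Agent.H352.KE.Frame

/-!
# Commuting elements of order `p ^ m` in Chevalley groups, with checks in `ℤ[x] / (x⁴ - P)` (helper682, S4822)
-/

set_option autoImplicit false
set_option linter.unusedSectionVars false

namespace Cfsg.Agent.H682.KB

open CoxeterSystem Cfsg Cfsg.Lie Cfsg.Lie.ChevalleyDatum Subgroup
open Cfsg.Agent.ChevalleyStructure Cfsg.Agent.ChevalleyStructure.Elts Cfsg.Agent.ChevalleyStructure.CoxeterGeom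
  Cfsg.Agent.ChevalleyStructure.CoxeterGeomTypes Cfsg.Agent.ChevalleyStructure.NPerm
open Cfsg.Agent.Tits.Roots Cfsg.Agent.Tits.Core Cfsg.Agent.Nodes Cfsg.Agent.Nodes.Reps Cfsg.Agent.Nodes.BNOf
  Cfsg.Agent.Nodes.RGDChev Cfsg.Agent.Nodes.Bruhat
open Cfsg.Agent.KFacts.RgdField Cfsg.Agent.KFacts.RgdChevCoord Cfsg.Agent.BpExc.TorCent Cfsg.Agent.BpExc.TorChev
open Cfsg.Agent.H129.TorusChar Cfsg.Agent.H129.TorusUntw
  Cfsg.Agent.H129.WData Cfsg.Agent.BpExc Cfsg.Agent.H210.EL Cfsg.Agent.H352.KE Cfsg.Agent.H944.Tab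
open Cfsg.Agent.H944.RootVals (ms)
open Cfsg.Agent.H508.KB

universe u v

theorem eigOK_smul {l m : ℕ} {W : Mat l} {s : ZMod m} {a : Fin l → ZMod m} (ha : EigOK W s a) (c : ZMod m) :
    EigOK W s (fun n => c * a n) := by
  intro j
  have h := ha j
  calc ∑ n, (W j n : ZMod m) * (c * a n) = c * ∑ n, (W j n : ZMod m) * a n := by
        rw [Finset.mul_sum]
        exact Finset.sum_congr rfl fun n _ => by ring
    _ = s * (c * a j) := by rw [h]; ring

theorem eigOK_zero {l m : ℕ} {W : Mat l} {s : ZMod m} : EigOK W s (0 : Fin l → ZMod m) := by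
  intro j
  simp

/-! ### the model -/

section model

variable {G : Type v} [Group G] {l N : ℕ} [NeZero N] {W : Mat l} {s : ZMod N} {X : (Fin l → ZMod N) → G}

theorem X_zero (hX : ∀ a b, EigOK W s a → EigOK W s b → X (a + b) = X a * X b) : X 0 = 1 := by
  have h := hX 0 0 eigOK_zero eigOK_zero
  rw [add_zero] at h
  exact (mul_eq_left.1 h.symm)

theorem X_pow (hX : ∀ a b, EigOK W s a → EigOK W s b → X (a + b) = X a * X b) {a : Fin l → ZMod N}
    (ha : EigOK W s a) (n : ℕ) : X (fun i => (n : ZMod N) * a i) = X a ^ n := by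
  induction n with
  | zero =>
    rw [pow_zero, ← X_zero hX]
    congr 1
    funext i
    simp
  | succ n ih =>
    rw [pow_succ, ← ih, ← hX _ _ (eigOK_smul ha _) ha]
    congr 1
    funext i
    simp only [Pi.add_apply]
    push_cast
    ring

theorem X_order (hX : ∀ a b, EigOK W s a → EigOK W s b → X (a + b) = X a * X b)
    (hX1 : ∀ a, EigOK W s a → X a = 1 → a = 0) {a : Fin l → ZMod N} (ha : EigOK W s a) (i : Fin l) (hi : a i = 1) :
    orderOf (X a) = N := by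
  apply Nat.dvd_antisymm
  · apply orderOf_dvd_of_pow_eq_one
    rw [← X_pow hX ha, ← X_zero hX]
    congr 1
    funext j
    simp
  · have h1 := pow_orderOf_eq_one (X a)
    rw [← X_pow hX ha] at h1
    have h2 := congrFun (hX1 _ (eigOK_smul ha _) h1) i
    rw [hi, mul_one, Pi.zero_apply] at h2
    exact (ZMod.natCast_eq_zero_iff _ _).1 h2

end model

theorem ev_x {R : Type*} [CommRing R] (q : R) : ev q (0, 1, 0, 0) = q := by
  unfold ev
  push_cast
  ring

variable {D : ChevalleyDatum} {l : ℕ} {M : CoxeterMatrix (Fin l)} (hp : IsType D l M)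

include hp in
/-- **Commuting elements of order `p ^ m`** -/
theorem exists_prs {F : Type u} [Field F] [Fintype F] {p m : ℕ} [Fact p.Prime] (hpF : (p : F) ≠ 0)
    {B₀ : Fin l → Fin l → ℤ} (hB : InvC D l 1 B₀) {A : Mat l} (hA : ∀ i j, A i j = cartanOf D l i j)
    {Cw : List (Fin l × Mat l)} (hw : ChainOK A Cw) {P : Q4}
    (hq : (Fintype.card F : ZMod (p ^ m)) ^ 4 = ev (Fintype.card F : ZMod (p ^ m)) P) {d : ℕ}
    (hqd : (Fintype.card F : ZMod (p ^ m)) ^ d = 1) {ι : Type} (Cv : ι → List (Fin l × Mat l))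
    (hv : ∀ t, ChainOK A (Cv t)) (hc : ∀ t, CommOK (hd (Cv t)) (hd Cw)) (b a : ι → List Q4)
    (eb : ∀ t, EigQ P (hd Cw) (0, 1, 0, 0) (b t)) (ea : ∀ t, EigQ P (hd Cw) (0, 1, 0, 0) (a t))
    (evb : ∀ t, EigQ P (hd (Cv t)) (1, 0, 0, 0) (b t)) (s : ι → Q4)
    (eva : ∀ t, EigQ P (hd (Cv t)) (s t) (a t)) (k k' : ι → ℕ)
    (hs : ∀ t, ev (Fintype.card F : ZMod (p ^ m)) (s t) = (Fintype.card F : ZMod (p ^ m)) ^ k t)
    (hk : ∀ t, k t + k' t = d) (ib : ∀ t, ∃ i : Fin l, (b t).getD i (0, 0, 0, 0) = (1, 0, 0, 0))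
    (ia : ∀ t, ∃ i : Fin l, (a t).getD i (0, 0, 0, 0) = (1, 0, 0, 0)) :
    ∃ x : ι → ↥(D.group F), (∀ t, ∃ y c, Pr p m (x t) y c (Fintype.card F ^ k' t)) ∧
      ∀ t t' (i j : ℕ), IsConj (x t ^ i) (x t' ^ j) →
        ms D l (fun n => (i : ZMod (p ^ m)) * vv (Fintype.card F : ZMod (p ^ m)) (b t) n) =
          ms D l (fun n => (j : ZMod (p ^ m)) * vv (Fintype.card F : ZMod (p ^ m)) (b t') n) := by
  have hpp : p.Prime := Fact.out
  have : NeZero (p ^ m) := ⟨pow_ne_zero _ hpp.ne_zero⟩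
  have hNF : ((p ^ m : ℕ) : F) ≠ 0 := by
    rw [Nat.cast_pow]
    exact pow_ne_zero _ hpF
  obtain ⟨X, hX, hX1, hXc, hXf⟩ := exists_frame (F := F) hp hNF hB hA hw
  set q : ZMod (p ^ m) := (Fintype.card F : ZMod (p ^ m)) with hqdef
  have eb' : ∀ t, EigOK (hd Cw) q (vv q (b t) : Fin l → ZMod (p ^ m)) := by
    intro t
    have h := (eb t).eigOK hq
    rwa [ev_x] at h
  have ea' : ∀ t, EigOK (hd Cw) q (vv q (a t) : Fin l → ZMod (p ^ m)) := by
    intro t
    have h := (ea t).eigOK hq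
    rwa [ev_x] at h
  refine ⟨fun t => X (vv q (b t)), fun t => ?_, fun t t' i j h => ?_⟩
  · obtain ⟨c, hc⟩ := hXc (Cv t) (hv t) (hc t)
    refine ⟨X (vv q (a t)), c, ?_, ?_, ?_, ?_, ?_⟩
    · obtain ⟨i, hi⟩ := ib t
      exact X_order hX hX1 (eb' t) i (by unfold vv; rw [hi]; exact ev_one)
    · obtain ⟨i, hi⟩ := ia t
      exact X_order hX hX1 (ea' t) i (by unfold vv; rw [hi]; exact ev_one)
    · rw [← hX _ _ (eb' t) (ea' t), ← hX _ _ (ea' t) (eb' t), add_comm]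
    · have h1 := hc (vv q (b t)) (vv q (b t)) (eb' t) (eb' t) (fun j => by
        have h2 := (evb t).eigOK hq j
        rwa [ev_one, one_mul] at h2)
      rwa [mul_inv_eq_iff_eq_mul] at h1
    · have h1 := hc (vv q (a t)) (fun n => ((Fintype.card F ^ k' t : ℕ) : ZMod (p ^ m)) * vv q (a t) n) (ea' t)
        (eigOK_smul (ea' t) _) (fun j => by
          have h2 := eigOK_smul ((eva t).eigOK hq) ((Fintype.card F ^ k' t : ℕ) : ZMod (p ^ m)) j
          rw [h2, hs, Nat.cast_pow, ← hqdef, ← mul_assoc, ← pow_add, hk, hqd, one_mul])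
      rw [h1, X_pow hX (ea' t)]
  · have h1 : IsConj (X (fun n => (i : ZMod (p ^ m)) * vv q (b t) n)) (X (fun n => (j : ZMod (p ^ m)) * vv q (b t') n)) := by
      rw [X_pow hX (eb' t), X_pow hX (eb' t')]
      exact h
    exact hXf _ _ (eigOK_smul (eb' t) _) (eigOK_smul (eb' t') _) h1

/-! ### units of `ZMod (p ^ m)` -/

section units

variable {p m : ℕ} [Fact p.Prime] (hm : m ≠ 0)

include hm in
theorem isUnit_of_cast {z : ZMod (p ^ m)} (h : ZMod.castHom (dvd_pow_self p hm) (ZMod p) z ≠ 0) : IsUnit z := by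
  have hpp : p.Prime := Fact.out
  have : NeZero (p ^ m) := ⟨pow_ne_zero _ hpp.ne_zero⟩
  rw [← ZMod.natCast_zmod_val z] at h ⊢
  rw [ZMod.isUnit_iff_coprime]
  apply Nat.Coprime.pow_right
  rw [Nat.coprime_comm, Nat.Prime.coprime_iff_not_dvd hpp]
  intro h1
  apply h
  rw [map_natCast]
  exact (CharP.cast_eq_zero_iff (ZMod p) p _).2 h1

include hm in
theorem isUnit_int {n : ℤ} (h : ¬ (p : ℤ) ∣ n) : IsUnit (n : ZMod (p ^ m)) := by
  apply isUnit_of_cast hm
  rw [map_intCast]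
  intro h1
  exact h ((ZMod.intCast_zmod_eq_zero_iff_dvd n p).1 h1)

include hm in
/-- a certificate for a unit -/
theorem isUnit_ev {q : ZMod (p ^ m)} {P : Q4} (hq : q ^ 4 = ev q P) {u C : Q4} {n : ℤ}
    (h : mul4 P u C = (n, 0, 0, 0)) (hn : ¬ (p : ℤ) ∣ n) : IsUnit (ev q C) := by
  have h1 : ev q u * ev q C = n := by rw [← ev_mul hq, h, ev_int]
  exact isUnit_of_mul_isUnit_right (h1 ▸ isUnit_int hm hn)

include hm in
theorem isUnit_two (hp2 : p ≠ 2) : IsUnit (2 : ZMod (p ^ m)) := by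
  have hpp : p.Prime := Fact.out
  have h := isUnit_int (p := p) hm (n := 2) (by
    intro h1
    exact hp2 ((Nat.prime_dvd_prime_iff_eq hpp Nat.prime_two).1 (by exact_mod_cast h1)))
  exact_mod_cast h

/-- the `k`-th powers of `i` and `j` agree -/
theorem pow_eq_of_ms {q : ZMod (p ^ m)} {P : Q4} (hq : q ^ 4 = ev q P) (hp2 : p ≠ 2) {L : List (List ℕ)}
    (hL : chkTab D l L = true) (hl : ∀ r ∈ L, r.length ≤ l) {K : List Bool} (hK : Even (bv K 0)) {B B' : List Q4}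
    {i j : ℕ} (h : ms D l (fun n : Fin l => (i : ZMod (p ^ m)) * vv q B n) =
      ms D l (fun n : Fin l => (j : ZMod (p ^ m)) * vv q B' n)) :
    (i : ZMod (p ^ m)) ^ bv K 0 * ev q (ps4 P K B L) = (j : ZMod (p ^ m)) ^ bv K 0 * ev q (ps4 P K B' L) := by
  by_cases hm : m = 0
  · subst hm
    exact Subsingleton.elim (α := ZMod 1) _ _
  have h1 : ((ms D l (fun n : Fin l => (i : ZMod (p ^ m)) * vv q B n)).map fun x => x ^ bv K 0).sum =
      ((ms D l (fun n : Fin l => (j : ZMod (p ^ m)) * vv q B' n)).map fun x => x ^ bv K 0).sum := by rw [h]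
  rw [psum_smul, psum_smul, psum_eq hq hL hl K B hK, psum_eq hq hL hl K B' hK] at h1
  obtain ⟨u, hu⟩ := isUnit_two (p := p) hm hp2
  rw [← hu] at h1
  have h2 : (u : ZMod (p ^ m)) * ((i : ZMod (p ^ m)) ^ bv K 0 * ev q (ps4 P K B L)) =
      (u : ZMod (p ^ m)) * ((j : ZMod (p ^ m)) ^ bv K 0 * ev q (ps4 P K B' L)) := by
    linear_combination h1
  exact (Units.mul_right_inj u).1 h2

end units

end Cfsg.Agent.H682.KB
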